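import Groth.Agent.LocFreeHomLib.Basic
import Groth.Agent.HilbObsLib.Stalk
import Groth.Agent.DevLib.Power

/-!
# The internal Hom as a contravariant functor of the first variable
-/

set_option autoImplicit false
set_option backward.isDefEq.respectTransparency false
set_option linter.style.haveILetI false
set_option maxHeartbeats 400000

universe u

open CategoryTheory CategoryTheory.Limits AlgebraicGeometry TopologicalSpace Opposite
open Groth.Agent.PullbackMod Groth.Agent.DCohLib Groth.Agent.StalkHomLib
open scoped TensorProduct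

noncomputable section

namespace Groth.Agent.ProjSerreLib

variable {X : Scheme.{u}}

local instance hasHF (M : X.Modules) : ModSite.HasSheafHom (O := X.sheaf) M :=
  ModTensor.hasSheafHom (O := X.sheaf) M

/-- Precomposition. -/
def preMap {K P : X.Modules} (f : K ⟶ P) (N : X.Modules) : (hF P).obj N ⟶ (hF K).obj N :=
  (ModSite.sheafHomAdj (O := X.sheaf) K).homEquiv _ _
    (((DCoh.tensorBi (X := X)).obj ((hF P).obj N)).map f ≫ ev P N)

theorem theta_preMap {K P : X.Modules} (f : K ⟶ P) (N : X.Modules) (x : X)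
    (d : ((hF P).obj N).presheaf.stalk x) (a : K.presheaf.stalk x) :
    theta K N x (stalkLin (preMap f N) x d) a = theta P N x d (stalkLin f x a) := by
  rw [theta_transpose, preMap, Equiv.symm_apply_apply]
  rw [stalkLin_comp, LinearMap.comp_apply, theta_apply]
  refine congrArg _ ?_
  exact ((stalkTensor_natural_right x f (d ⊗ₜ a)).trans
    (congrArg (stalkTensor x _ P) (LinearMap.lTensor_tmul _ _ _ _)))

variable (N : X.Modules)

theorem hom_ext_theta {K Q : X.Modules} (hK : FlatMod.IsFinLocFree K) {a b : Q ⟶ (hF K).obj N}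
    (h : ∀ (x : X) (d : Q.presheaf.stalk x) (z : K.presheaf.stalk x),
      theta K N x (stalkLin a x d) z = theta K N x (stalkLin b x d) z) : a = b :=
  PullbackMod.hom_ext_stalk fun x => LinearMap.ext fun d =>
    (LocFreeHomLib.theta_bijective_flf K hK N x).1 (LinearMap.ext fun z => h x d z)

theorem preMap_comp {K P R : X.Modules} (f : K ⟶ P) (g : P ⟶ R) (hK : FlatMod.IsFinLocFree K) :
    preMap (f ≫ g) N = preMap g N ≫ preMap f N :=
  hom_ext_theta N hK fun x d z => by
    rw [theta_preMap, stalkLin_comp, LinearMap.comp_apply, stalkLin_comp, LinearMap.comp_apply, theta_preMap,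
      theta_preMap]

theorem preMap_id {K : X.Modules} (hK : FlatMod.IsFinLocFree K) : preMap (𝟙 K) N = 𝟙 _ :=
  hom_ext_theta N hK fun x d z => by
    rw [theta_preMap, stalkLin_id, stalkLin_id, LinearMap.id_apply, LinearMap.id_apply]

theorem preMap_zero {K P : X.Modules} (hK : FlatMod.IsFinLocFree K) : preMap (0 : K ⟶ P) N = 0 :=
  hom_ext_theta N hK fun x d z => by
    rw [theta_preMap, DevLib.stalkLin_zero, DevLib.stalkLin_zero, LinearMap.zero_apply, LinearMap.zero_apply,
      map_zero, map_zero]
    rfl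

theorem stalkLin_add {K P : X.Modules} (f g : K ⟶ P) (x : X) :
    stalkLin (f + g) x = stalkLin f x + stalkLin g x := by
  refine LinearMap.ext fun z => ?_
  obtain ⟨U, hU, s, rfl⟩ := TopCat.Presheaf.exists_germ_eq K.presheaf z
  rw [LinearMap.add_apply, stalkLin_germ, stalkLin_germ, stalkLin_germ]
  exact (map_add (P.presheaf.germ U x hU).hom _ _)

theorem preMap_add {K P : X.Modules} (f g : K ⟶ P) (hK : FlatMod.IsFinLocFree K) :
    preMap (f + g) N = preMap f N + preMap g N :=
  hom_ext_theta N hK fun x d z => by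
    rw [theta_preMap, stalkLin_add, stalkLin_add, LinearMap.add_apply, LinearMap.add_apply, map_add, map_add,
      LinearMap.add_apply, theta_preMap, theta_preMap]

theorem preMap_sum {K P : X.Modules} {ι : Type} (s : Finset ι) (f : ι → (K ⟶ P)) (hK : FlatMod.IsFinLocFree K) :
    preMap (∑ i ∈ s, f i) N = ∑ i ∈ s, preMap (f i) N :=
  map_sum (AddMonoidHom.mk' (fun g : K ⟶ P => preMap g N) fun a b => preMap_add N a b hK) f s

variable {S : ShortComplex X.Modules}

/-- The dual complex. -/
abbrev homSeq (S : ShortComplex X.Modules) (h₁ : FlatMod.IsFinLocFree S.X₁) : ShortComplex X.Modules :=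
  ShortComplex.mk (preMap S.g N) (preMap S.f N) (by rw [← preMap_comp N _ _ h₁, S.zero, preMap_zero N h₁])

/-- The internal Hom turns exact sequences of locally free modules into exact sequences. -/
theorem shortExact_homSeq (hS : S.ShortExact) (h₁ : FlatMod.IsFinLocFree S.X₁) (h₂ : FlatMod.IsFinLocFree S.X₂)
    (h₃ : FlatMod.IsFinLocFree S.X₃) : (homSeq N S h₁).ShortExact := by
  have hsec : ∀ x : X, ∃ l : S.X₃.presheaf.stalk x →ₗ[X.presheaf.stalk x] S.X₂.presheaf.stalk x,
      (stalkLin S.g x).comp l = LinearMap.id := fun x => by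
    obtain ⟨hfree, hfin⟩ := free_finite_stalk_of_flf h₃ x
    exact Module.projective_lifting_property (stalkLin S.g x) LinearMap.id (DevLib.stalk_surjective hS x)
  have hmono : Mono (homSeq N S h₁).f := (mono_iff_stalk _).2 fun x => by
    refine (injective_iff_map_eq_zero _).2 fun d hd => (LocFreeHomLib.theta_bijective_flf S.X₃ h₃ N x).1 ?_
    refine LinearMap.ext fun c => ?_
    obtain ⟨b, rfl⟩ := DevLib.stalk_surjective hS x c
    rw [← theta_preMap, show stalkLin (preMap S.g N) x d = 0 from hd]
    simp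
  have hepi : Epi (homSeq N S h₁).g := (epi_iff_stalk _).2 fun x d => by
    obtain ⟨l, hl⟩ := hsec x
    obtain ⟨e, he₁, -⟩ :=
      ((DevLib.stalk_exact hS x).splitSurjectiveEquiv (DevLib.stalk_injective hS x) ⟨l, hl⟩)
    let r := (LinearMap.fst _ _ _).comp e.toLinearMap
    obtain ⟨d', hd'⟩ := (LocFreeHomLib.theta_bijective_flf S.X₂ h₂ N x).2 ((theta S.X₁ N x d).comp r)
    refine ⟨d', (LocFreeHomLib.theta_bijective_flf S.X₁ h₁ N x).1 (LinearMap.ext fun a => ?_)⟩
    refine (theta_preMap S.f N x d' a).trans ((LinearMap.congr_fun hd' _).trans (congrArg (theta S.X₁ N x d) ?_))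
    show (e (stalkLin S.f x a)).1 = a
    rw [he₁]
    simp
  refine ShortComplex.ShortExact.mk' (HilbObsLib.exact_of_stalk fun x d hd => ?_) hmono hepi
  obtain ⟨l, hl⟩ := hsec x
  obtain ⟨c, hc⟩ := (LocFreeHomLib.theta_bijective_flf S.X₃ h₃ N x).2 ((theta S.X₂ N x d).comp l)
  refine ⟨c, (LocFreeHomLib.theta_bijective_flf S.X₂ h₂ N x).1 (LinearMap.ext fun b => ?_)⟩
  refine (theta_preMap S.g N x c b).trans ((LinearMap.congr_fun hc _).trans ?_)
  obtain ⟨a, ha⟩ := (DevLib.stalk_exact hS x (l (stalkLin S.g x b) - b)).1 (by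
    rw [map_sub, show stalkLin S.g x (l (stalkLin S.g x b)) = stalkLin S.g x b from
      LinearMap.congr_fun hl _, sub_self])
  refine sub_eq_zero.1 ?_
  rw [LinearMap.comp_apply, ← map_sub, ← ha, ← theta_preMap]
  exact LinearMap.congr_fun (congrArg (theta S.X₁ N x) hd |>.trans (map_zero _)) a

end Groth.Agent.ProjSerreLib
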