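import Groth.Agent.HorrocksPnLib.Ext1
import Groth.Agent.ProjSerreLib.HomContra
import Groth.Agent.ProjTwist.Zero
import Groth.Agent.ASBunKS.TwistPull

/-!
# The internal Hom out of a twisting sheaf
-/

set_option autoImplicit false
set_option backward.isDefEq.respectTransparency false
set_option linter.style.haveILetI false
set_option maxHeartbeats 400000

universe u

open CategoryTheory CategoryTheory.Limits AlgebraicGeometry TopologicalSpace Opposite
open Groth.Agent.StalkHomLib

noncomputable section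

namespace Groth.Agent.ProjSerreLib

variable {X : Scheme.{u}}

local instance hasHF' (M : X.Modules) : ModSite.HasSheafHom (O := X.sheaf) M :=
  ModTensor.hasSheafHom (O := X.sheaf) M

/-- The internal Hom out of an invertible module. -/
theorem nonempty_hF_invertible {L L' : X.Modules} (η : CohB1.tensorMod L L' ≅ Coh.structureModule X)
    (N : X.Modules) : Nonempty ((hF L).obj N ≅ CohB1.tensorMod N L') :=
  ⟨((ModSite.sheafHomAdj (O := X.sheaf) L).rightAdjointUniq
    (CategoryTheory.Equivalence.mk (CurveLib.tensR L) (CurveLib.tensR L') (VBLib.untwist η).symm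
      (VBLib.untwist (AmpleLib.comm L' L ≪≫ η))).toAdjunction).app N⟩

/-- The two descriptions of the internal Hom agree. -/
theorem nonempty_sheafHom_iso (F : X.Modules) [DCoh.HasSheafHom F] (N : X.Modules) :
    Nonempty ((hF F).obj N ≅ (DCoh.sheafHom F).obj N) :=
  ⟨(Adjunction.rightAdjointUniq (ModSite.sheafHomAdj (O := X.sheaf) F)
      ((DCoh.sheafHomAdj F).ofNatIsoLeft (ModTensor.tensorSymm X.sheaf F).symm)).app N⟩

section OnPS

variable {k : Type u} [Field k] {n : ℕ}

local notation "PS" => CohB1.ProjSpace n k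
local notation "O(" d ")" => Twist.twistProjSpace n k d

local instance hasHFPS (M : (PS).Modules) : ModSite.HasSheafHom (O := (PS).sheaf) M :=
  ModTensor.hasSheafHom (O := (PS).sheaf) M

theorem nonempty_mul (a b : ℤ) : Nonempty (CohB1.tensorMod (O(a)) (O(b)) ≅ O(a + b)) :=
  ⟨ProjTwistLib.mulIso (𝒜 := CohB1.polyGrading n k) rfl (CMRegLib.hasUnit _)⟩

/-- `Hom(O(a), O(b)) = O(b - a)`. -/
theorem nonempty_hF_twist (a b : ℤ) : Nonempty ((hF (O(a))).obj (O(b)) ≅ O(b + -a)) := by
  obtain ⟨η⟩ := HorrocksPnLib.nonempty_cancel_twist (k := k) (n := n) (add_neg_cancel a)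
  obtain ⟨φ⟩ := nonempty_hF_invertible η (O(b))
  obtain ⟨ψ⟩ := nonempty_mul (k := k) (n := n) b (-a)
  exact ⟨φ ≪≫ ψ⟩

/-- Sections of `O(e)` and top cohomology of `O(-n-1-e)` have the same dimension. -/
theorem finrank_top_eq (e : ℕ) :
    Module.finrank k (Coh.HH PS (O(-((n : ℤ) + 1) + -(-((n : ℤ) + 1 + e)))) 0) =
      Module.finrank k (Coh.HH PS (O(-((n : ℤ) + 1 + e))) n) := by
  obtain ⟨f⟩ := ProjTwist.nonempty_top n k e
  obtain ⟨g⟩ := ProjTwist.nonempty_H0 n k e
  rw [show -((n : ℤ) + 1) + -(-((n : ℤ) + 1 + e)) = (e : ℤ) by ring, f.finrank_eq, g.finrank_eq]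

theorem subsingleton_twist (hn : 0 < n) (c : ℤ) {i : ℕ}
    (h : (i ≠ 0 ∧ (-((n : ℤ) + 1) < c ∨ i ≠ n)) ∨ (i = 0 ∧ c < 0)) :
    Subsingleton (Coh.HH PS (O(c)) i) := by
  rcases h with ⟨hi, h⟩ | ⟨rfl, hc⟩
  · obtain ⟨m, rfl⟩ : ∃ m, i = m + 1 := ⟨i - 1, by omega⟩
    exact ProjTwist.subsingleton_HH_pos n k c m h
  · exact ProjTwist.subsingleton_HH n k c 0 (by omega) (by omega)

end OnPS

end Groth.Agent.ProjSerreLib
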