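import Groth.Agent.ProjSerreLib.GenDual
import Groth.Agent.ProjSerreLib.Twists
import Groth.Agent.FibreComp.DimSpace
import Groth.Agent.QGorLib.Depth
import Groth.Agent.CutDimLib.Basic

/-!
# Hypotheses of duality from Cohen–Macaulay closed points
-/

set_option autoImplicit false
set_option backward.isDefEq.respectTransparency false

universe u

open CategoryTheory CategoryTheory.Limits AlgebraicGeometry Topology TopologicalSpace

namespace Groth.Agent.ProjSerreLib

variable {k : Type u} [Field k] {N n : ℕ} {X : Scheme.{u}}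

/-- Equidimensionality gives the dimension of the local rings at closed points. -/
theorem dim_closed_point_of_equidim (p : X ⟶ Spec (CommRingCat.of k)) [LocallyOfFiniteType p]
    (hn : topologicalKrullDim ↥X ≤ (n : WithBot ℕ∞))
    (heq : ∀ Z : Set ↥X, Z ∈ irreducibleComponents ↥X → topologicalKrullDim ↥Z = (n : WithBot ℕ∞))
    (x : X) (hx : IsClosed ({x} : Set X)) : ringKrullDim (X.presheaf.stalk x) = (n : WithBot ℕ∞) := by
  refine le_antisymm ((FibreComp.ringKrullDim_stalk_le_topologicalKrullDim x).trans hn) ?_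
  let Z : Set X := irreducibleComponent x
  have hZ : Z ∈ irreducibleComponents ↥X := irreducibleComponent_mem_irreducibleComponents x
  rw [← heq Z hZ, (CutDimLib.components_equidim' p).2 Z hZ x mem_irreducibleComponent hx,
    ← PrimeSpectrum.topologicalKrullDim_eq_ringKrullDim]
  have hemb : IsEmbedding (X.fromSpecStalk x) := (X.fromSpecStalk x).isEmbedding
  refine le_trans ?_ (IsHomeomorph.topologicalKrullDim_eq _ hemb.toHomeomorph.isHomeomorph).ge
  have hsub : {t : X | t ∈ Z ∧ t ⤳ x} ⊆ Set.range (X.fromSpecStalk x) := fun t ht => by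
    rw [Scheme.range_fromSpecStalk]
    exact ht.2
  exact IsInducing.topologicalKrullDim_le (IsEmbedding.inclusion hsub).isInducing

/-- The vanishing used by duality. -/
theorem vanish_of_cm (ι : X ⟶ CohB1.ProjSpace N k) [IsClosedImmersion ι]
    (hCM : ∀ x : X, IsClosed ({x} : Set ↥X) →
      LocCoh.IsCohenMacaulayLocalRing (X.presheaf.stalk x) ∧ ringKrullDim (X.presheaf.stalk x) = n)
    (P : X.Modules) (hP : FlatMod.IsFinLocFree P) : ∃ m₀ : ℤ, ∀ m : ℤ, m₀ ≤ m → ∀ j, j < n →
      Subsingleton (Coh.HH X (Pic13.twistOn k ι P (-m)) j) := by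
  haveI := isNoetherian_sub ι
  refine (vanish_lt_iff_depth_sub ι (CurveLib.isCoh_of_isFinLocFree hP) n).2 fun x hx => ?_
  obtain ⟨hfree, hfin⟩ := DCohLib.free_finite_stalk_of_flf hP x
  obtain ⟨hcm, hdim⟩ := hCM x hx
  refine le_depth_of_free _ n ?_
  have h1 := hcm.supportDim_eq_depth
  rw [Module.supportDim_self_eq_ringKrullDim, hdim] at h1
  exact le_of_eq (WithBot.coe_injective h1)

local instance hasHFG'' (M : X.Modules) : ModSite.HasSheafHom (O := X.sheaf) M :=
  ModTensor.hasSheafHom (O := X.sheaf) M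

/-- The internal Hom out of a finite locally free module into a coherent one is coherent. -/
theorem isCoh_hF [IsLocallyNoetherian X] {P ω : X.Modules} (hP : FlatMod.IsFinLocFree P) (hω : Coh.IsCoh ω) :
    Coh.IsCoh ((StalkHomLib.hF P).obj ω) := by
  obtain ⟨e⟩ : Nonempty (CohB1.tensorMod ω (LocFreeHomLib.dualE P) ≅ (StalkHomLib.hF P).obj ω) :=
    haveI := LocFreeHomLib.isIso_alpha P hP ω
    ⟨asIso (LocFreeHomLib.alpha P ω)⟩
  exact ProjCoh.isCoh_of_iso e
    (CurveLib.isCoh_tmod hω (CurveLib.isCoh_of_isFinLocFree (DCohMore.isFinLocFree_dual P hP)))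

theorem isProper_over [X.Over (Spec (CommRingCat.of k))] (ι : X ⟶ CohB1.ProjSpace N k) [IsClosedImmersion ι]
    (hι : ι ≫ CohB1.ProjSpace.toSpec N k = X ↘ Spec (CommRingCat.of k)) : IsProper (X ↘ Spec (CommRingCat.of k)) := by
  rw [← hι]
  infer_instance

end Groth.Agent.ProjSerreLib
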