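import Groth.Agent.ProjSerreLib.CMDual

/-!
# Vanishing of the Ext groups above the dimension
-/

set_option autoImplicit false
set_option backward.isDefEq.respectTransparency false
set_option linter.style.haveILetI false
set_option maxHeartbeats 400000

universe u

open CategoryTheory CategoryTheory.Limits AlgebraicGeometry TopologicalSpace Opposite
open Groth.Agent.PullbackMod Groth.Agent.DCohLib

noncomputable section

namespace Groth.Agent.ProjSerreLib

variable {k : Type u} [Field k] {N n : ℕ} {X : Scheme.{u}} [X.Over (Spec (CommRingCat.of k))]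
  [IsProper (X ↘ Spec (CommRingCat.of k))] (ι : X ⟶ CohB1.ProjSpace N k) [IsClosedImmersion ι]
  {ω : X.Modules} (hω : Coh.IsCoh ω)
  (hvan : ∀ P : X.Modules, FlatMod.IsFinLocFree P → ∃ m₀ : ℤ, ∀ m : ℤ, m₀ ≤ m → ∀ j, j < n →
    Subsingleton (Coh.HH X (Pic13.twistOn k ι P (-m)) j))
  (t : Coh.HH X ω n →ₗ[k] k) (hn : topologicalKrullDim ↥X ≤ (n : WithBot ℕ∞))
  (hdual : ∀ F : X.Modules, Coh.IsCoh F → ∀ ψ : Coh.HH X F n →ₗ[k] k,
    ∃! φ : F ⟶ ω, ∀ x : Coh.HH X F n, ψ x = t (Sheaf.H.map ((SheafOfModules.toSheaf X.ringCatSheaf).map φ) n x))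

variable [HasExt.{u} X.Modules]

local instance hasHFV (M : X.Modules) : ModSite.HasSheafHom (O := X.sheaf) M :=
  ModTensor.hasSheafHom (O := X.sheaf) M

open Abelian (Ext)

include hω hvan hn hdual in
theorem ext_succ_dim {F : X.Modules} (hF : Coh.IsCoh F) : Subsingleton (Ext.{u} F ω (n + 1)) := by
  haveI := EulerIneqLib.isNoetherian_proper (X := X) k
  obtain ⟨S, hS, h3, hc1, h2, hP, hP'⟩ := exists_step_gen ι hω hvan hF
  subst h3
  have hc2 := CurveLib.isCoh_of_isFinLocFree h2
  have hE : ∀ q, 1 ≤ q → Subsingleton (Ext.{u} S.X₂ ω q) := fun q hq => by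
    refine subsingleton_ext_flf_gen h2 ?_
    rcases Nat.lt_or_ge (n + 1) q with h | h
    · exact CurveLib.subsingleton_HH_of_dim _ (d := n) hn (by omega)
    · exact hP' q hq h
  rcases Nat.eq_zero_or_pos n with rfl | hn0
  · haveI := (finrank_hom_gen t hdual hc1).1
    haveI := (finrank_hom_gen t hdual hc2).1
    haveI := (finrank_hom_gen t hdual hF).1
    haveI : Module.Finite k (Ext.{u} S.X₁ ω 0) := Module.Finite.equiv (Ext.linearEquiv₀ (R := k)).symm
    haveI : Module.Finite k (Ext.{u} S.X₂ ω 0) := Module.Finite.equiv (Ext.linearEquiv₀ (R := k)).symm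
    haveI : Module.Finite k (Ext.{u} S.X₃ ω 0) := Module.Finite.equiv (Ext.linearEquiv₀ (R := k)).symm
    obtain ⟨hfin, e⟩ := ext_bottom (k := k) hS ω (hE 1 le_rfl)
    haveI := hfin
    have a1 : Module.finrank k (Ext.{u} S.X₁ ω 0) = Module.finrank k (Coh.HH X S.X₁ 0) :=
      (Ext.linearEquiv₀ (R := k)).finrank_eq.trans (finrank_hom_gen t hdual hc1).2
    have a2 : Module.finrank k (Ext.{u} S.X₂ ω 0) = Module.finrank k (Coh.HH X S.X₂ 0) :=
      (Ext.linearEquiv₀ (R := k)).finrank_eq.trans (finrank_hom_gen t hdual hc2).2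
    have a3 : Module.finrank k (Ext.{u} S.X₃ ω 0) = Module.finrank k (Coh.HH X S.X₃ 0) :=
      (Ext.linearEquiv₀ (R := k)).finrank_eq.trans (finrank_hom_gen t hdual hF).2
    haveI : Subsingleton (Coh.HH X S.X₁ 1) := CurveLib.subsingleton_HH_of_dim _ (d := 0) hn (by omega)
    haveI : Subsingleton (Coh.HH X S.X₂ 1) := CurveLib.subsingleton_HH_of_dim _ (d := 0) hn (by omega)
    have e1 := finrank_bottom k hS hc1 hc2 hF
    refine (Module.finrank_zero_iff (R := k)).1 ?_
    rw [Module.finrank_zero_of_subsingleton (M := Coh.HH X S.X₁ 1)] at e1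
    have : Module.finrank k (Ext.{u} S.X₃ ω (0 + 1)) = Module.finrank k (Ext.{u} S.X₃ ω 1) := rfl
    omega
  · obtain ⟨hf, hd⟩ := finrank_ext_gen ι hω hvan t hn hdual n le_rfl S.X₁ hc1
    obtain ⟨e⟩ := ext_shift (k := k) hS ω (hE n hn0) (hE (n + 1) (by omega))
    haveI := hf
    haveI : Module.Finite k (Ext.{u} S.X₃ ω (n + 1)) := Module.Finite.equiv e
    haveI := hP 0 hn0
    haveI := EulerIneqLib.finite_HH (k := k) hc1 0
    haveI : Subsingleton (Coh.HH X S.X₁ 0) := by
      exact (CurveLib.hMap_f_zero_injective (k := k) hS).subsingleton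
    refine (Module.finrank_zero_iff (R := k)).1 ?_
    rw [← e.finrank_eq, hd, Nat.sub_self]
    exact Module.finrank_zero_of_subsingleton

include hω hvan hn hdual in
theorem ext_vanish_gen : ∀ (i : ℕ), n < i → ∀ F : X.Modules, Coh.IsCoh F → Subsingleton (Ext.{u} F ω i) := by
  haveI := EulerIneqLib.isNoetherian_proper (X := X) k
  intro i hi
  induction i, (Nat.succ_le_of_lt hi) using Nat.le_induction with
  | base => exact fun F hF => ext_succ_dim ι hω hvan t hn hdual hF
  | succ i hi' ih =>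
    intro F hF
    obtain ⟨S, hS, h3, hc1, h2, hP, hP'⟩ := exists_step_gen ι hω hvan hF
    subst h3
    have hE : ∀ q, n < q → Subsingleton (Ext.{u} S.X₂ ω q) := fun q hq =>
      subsingleton_ext_flf_gen h2 (CurveLib.subsingleton_HH_of_dim _ (d := n) hn hq)
    obtain ⟨e⟩ := ext_shift (k := k) hS ω (hE i (by omega)) (hE (i + 1) (by omega))
    haveI := ih (by omega) S.X₁ hc1
    exact e.toEquiv.symm.subsingleton

end Groth.Agent.ProjSerreLib
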