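import Groth.Agent.ProjSerreLib.Twists
import Groth.Agent.HorrocksPnLib.Untwist

/-!
# Duality in degree zero
-/

set_option autoImplicit false
set_option backward.isDefEq.respectTransparency false
set_option linter.style.haveILetI false
set_option maxHeartbeats 400000

universe u

open CategoryTheory CategoryTheory.Limits AlgebraicGeometry TopologicalSpace Opposite
open Groth.Agent.PullbackMod Groth.Agent.DCohLib Groth.Agent.StalkHomLib

noncomputable section

namespace Groth.Agent.ProjSerreLib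

variable {k : Type u} [Field k] {n : ℕ}

local notation "PS" => CohB1.ProjSpace n k
local notation "O(" d ")" => Twist.twistProjSpace n k d
local notation "ω" => Twist.twistProjSpace n k (-((n : ℤ) + 1))

local instance hasHFPS' (M : (PS).Modules) : ModSite.HasSheafHom (O := (PS).sheaf) M :=
  ModTensor.hasSheafHom (O := (PS).sheaf) M

/-- The adjunction. -/
abbrev adj (F : (PS).Modules) : (DCoh.tensorBi (X := PS)).flip.obj F ⊣ hF F :=
  ModSite.sheafHomAdj (O := (PS).sheaf) F

/-- The map of a class in degree zero. -/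
def homOf (F : (PS).Modules) (c : Coh.HH PS ((hF F).obj ω) 0) : F ⟶ ω :=
  (AmpleLib.unitL F).inv ≫
    ((adj F).homEquiv (Coh.structureModule PS) ω).symm (DCohLib.secHom _ (CurveLib.secOf _ c))

theorem secHom_add (N : (PS).Modules) (c d : Coh.HH PS N 0) :
    DCohLib.secHom N (CurveLib.secOf N (c + d)) =
      DCohLib.secHom N (CurveLib.secOf N c) + DCohLib.secHom N (CurveLib.secOf N d) := by
  rw [← AmpleLib.secHom_sec (_ + _ : Coh.structureModule PS ⟶ N)]
  refine congrArg _ ?_
  rw [map_add]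
  exact (congrArg₂ (· + ·) (AmpleLib.sec_secHom _) (AmpleLib.sec_secHom _)).symm

theorem homOf_add (F : (PS).Modules) (c d : Coh.HH PS ((hF F).obj ω) 0) :
    homOf F (c + d) = homOf F c + homOf F d := by
  haveI : ((DCoh.tensorBi (X := PS)).flip.obj F).Additive :=
    Groth.Agent.ModTensor.additive_tensorBi_flip (PS).sheaf F
  unfold homOf
  rw [secHom_add, Adjunction.homEquiv_counit, Adjunction.homEquiv_counit, Adjunction.homEquiv_counit,
    Functor.map_add, Preadditive.add_comp, Preadditive.comp_add]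

theorem secHom_smul (N : (PS).Modules) (r : k) (c : Coh.HH PS N 0) :
    DCohLib.secHom N (CurveLib.secOf N (r • c)) =
      DCohLib.secHom N (CurveLib.secOf N c) ≫ (VBLib.cst k N r : N ⟶ N) := by
  rw [← AmpleLib.secHom_sec (DCohLib.secHom N _ ≫ (VBLib.cst k N r : N ⟶ N))]
  refine congrArg _ ?_
  rw [CurveLib.secOf_smul]
  show _ = (VBLib.cst k N r : N ⟶ N).app ⊤ (AmpleLib.sec (DCohLib.secHom N (CurveLib.secOf N c)))
  rw [AmpleLib.sec_secHom]
  show _ = (FactorOne.mulEnd N _).app ⊤ _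
  rw [FactorOne.mulEnd_app]
  exact congrArg (fun a : Γ(PS, ⊤) => a • CurveLib.secOf N c)
    (ConcreteCategory.congr_hom ((PS).presheaf.map_id _) _).symm

theorem stalkLin_cst (A : (PS).Modules) (c : k) (x : PS) (z : A.presheaf.stalk x) :
    stalkLin (VBLib.cst k A c : A ⟶ A) x z =
      (PS).presheaf.germ ⊤ x trivial (Coh.toGlobal (PS ↘ Spec (CommRingCat.of k)) c) • z := by
  obtain ⟨U, hU, m, rfl⟩ := TopCat.Presheaf.exists_germ_eq A.presheaf z
  rw [stalkLin_germ]
  show A.presheaf.germ U x hU ((FactorOne.mulEnd A _).app U m) = _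
  rw [FactorOne.mulEnd_app, ParaFLib.germ_smul']
  exact congrArg (· • A.presheaf.germ U x hU m)
    (TopCat.Presheaf.germ_res_apply (PS).presheaf (homOfLE (le_top : U ≤ ⊤)) x hU _)

theorem tensR_map_cst (A N : (PS).Modules) (c : k) :
    (CurveLib.tensR N).map (VBLib.cst k A c : A ⟶ A) =
      (VBLib.cst k ((CurveLib.tensR N).obj A) c : (CurveLib.tensR N).obj A ⟶ _) := by
  refine PullbackMod.hom_ext_stalk fun x => LinearMap.ext fun z => ?_
  obtain ⟨w, rfl⟩ := (DCohLib.stalkTensor x A N).surjective z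
  refine (DCohLib.stalkTensor_natural_left x (VBLib.cst k A c : A ⟶ A) w).trans
    (Eq.trans ?_ (stalkLin_cst _ c x _).symm)
  refine (congrArg (DCohLib.stalkTensor x A N) (?_ : _ = (PS).presheaf.germ ⊤ x trivial
    (Coh.toGlobal (PS ↘ Spec (CommRingCat.of k)) c) • w)).trans (map_smul (DCohLib.stalkTensor x A N) _ _)
  induction w using TensorProduct.induction_on with
  | zero => simp
  | tmul a b => rw [LinearMap.rTensor_tmul, stalkLin_cst, TensorProduct.smul_tmul']
  | add u v hu hv => rw [map_add, hu, hv, smul_add]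

theorem homOf_smul (F : (PS).Modules) (r : k) (c : Coh.HH PS ((hF F).obj ω) 0) :
    homOf F (r • c) = homOf F c ≫ (VBLib.cst k ω r : ω ⟶ ω) := by
  simp only [homOf, Category.assoc]
  refine congrArg _ ?_
  rw [← Adjunction.homEquiv_naturality_right_symm, secHom_smul, Adjunction.homEquiv_counit,
    Adjunction.homEquiv_counit, Functor.map_comp, Functor.map_comp, Category.assoc, Category.assoc]
  refine congrArg _ ?_
  rw [show ((DCoh.tensorBi (X := PS)).flip.obj F).map (VBLib.cst k ((hF F).obj ω) r : _ ⟶ _) =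
      (VBLib.cst k ((CurveLib.tensR F).obj ((hF F).obj ω)) r : _ ⟶ _) from tensR_map_cst _ F r]
  exact (VBLib.cst_natural k ((adj F).counit.app ω) r).trans
    ((adj F).counit.naturality (VBLib.cst k ω r : ω ⟶ ω)).symm

theorem homOf_bijective (F : (PS).Modules) : Function.Bijective (homOf (k := k) (n := n) F) := by
  refine Function.bijective_iff_has_inverse.2 ⟨fun φ => (CurveLib.secOf _).symm
    (AmpleLib.sec (((adj F).homEquiv (Coh.structureModule PS) ω) ((AmpleLib.unitL F).hom ≫ φ))), fun c => ?_, fun φ => ?_⟩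
  · simp only [homOf, Iso.hom_inv_id_assoc, Equiv.apply_symm_apply]
    rw [AmpleLib.sec_secHom, AddEquiv.symm_apply_apply]
  · simp only [homOf, AddEquiv.apply_symm_apply, AmpleLib.secHom_sec, Equiv.symm_apply_apply, Iso.inv_hom_id_assoc]

/-- The pairing. -/
def pairing (F : (PS).Modules) : Coh.HH PS ((hF F).obj ω) 0 →ₗ[k] (Coh.HH PS F n →ₗ[k] Coh.HH PS ω n) where
  toFun c := CurveLib.hMap (k := k) (homOf F c) n
  map_add' c d := LinearMap.ext fun z => by
    rw [homOf_add]
    exact HorrocksPnLib.hMap_add k _ _ n z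
  map_smul' r c := LinearMap.ext fun z => by
    rw [homOf_smul, HorrocksPnLib.hMap_comp, HorrocksPnLib.hMap_cst]
    rfl

theorem nontrivial_top : Nontrivial (Coh.HH PS ω n) := by
  obtain ⟨v₀, hv₀, -⟩ := HorrocksPnLib.exists_top_gen n k
  exact ⟨⟨v₀, 0, hv₀⟩⟩

theorem pairing_injective (hn : 0 < n) {F : (PS).Modules} (hF' : Coh.IsCoh F) :
    Function.Injective (pairing (k := k) (n := n) F) := by
  refine (injective_iff_map_eq_zero _).2 fun c hc => (homOf_bijective F).1 ?_
  obtain ⟨N, hN⟩ : ∃ N, n = N + 1 := ⟨n - 1, by omega⟩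
  subst hN
  haveI := nontrivial_top (k := k) (n := N + 1)
  have h0 : homOf F (0 : Coh.HH _ _ 0) = 0 := by
    have h := homOf_add (k := k) F 0 0
    rwa [add_zero, left_eq_add] at h
  rw [h0]
  exact HorrocksPnLib.eq_zero_of_hMap_top (k := k) (HorrocksPnLib.dim_PS rfl) hF' (CMRegLib.isInvertible_O _)
    fun z => LinearMap.congr_fun hc z

theorem finite_top (F : (PS).Modules) (hF' : Coh.IsCoh F) (i : ℕ) : Module.Finite k (Coh.HH PS F i) :=
  EulerIneqLib.finite_HH (k := k) hF' i

theorem pairing_surjective_twist (hn : 0 < n) (a : ℤ) :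
    Function.Surjective (pairing (k := k) (n := n) (O(a))) := by
  haveI := CMRegLib.isNoetherian_projSpace (k := k) (n := n)
  have hc : Coh.IsCoh (O(a)) := CurveLib.isCoh_of_isInvertible (CMRegLib.isInvertible_O a)
  rcases lt_or_ge (-((n : ℤ) + 1)) a with ha | ha
  · haveI := subsingleton_twist (k := k) hn a (i := n) (Or.inl ⟨by omega, Or.inl ha⟩)
    exact fun l => ⟨0, LinearMap.ext fun z => by rw [Subsingleton.elim z 0, map_zero, map_zero]⟩
  obtain ⟨e, he⟩ : ∃ e : ℕ, a = -((n : ℤ) + 1 + e) := ⟨(-((n : ℤ) + 1) - a).toNat, by omega⟩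
  subst he
  obtain ⟨φ⟩ := nonempty_hF_twist (k := k) (n := n) (-((n : ℤ) + 1 + e)) (-((n : ℤ) + 1))
  obtain ⟨v₀, hv₀, hv⟩ := HorrocksPnLib.exists_top_gen n k
  have h1 : Module.finrank k (Coh.HH PS ω n) = 1 := finrank_eq_one v₀ hv₀ hv
  haveI := finite_top _ hc n
  haveI : Module.Finite k (Coh.HH PS ω n) :=
    finite_top _ (CurveLib.isCoh_of_isInvertible (CMRegLib.isInvertible_O _)) n
  haveI : Module.Finite k (Coh.HH PS ((hF (O(-((n : ℤ) + 1 + e)))).obj ω) 0) :=
    finite_top _ (ProjCoh.isCoh_of_iso φ.symm (CurveLib.isCoh_of_isInvertible (CMRegLib.isInvertible_O _))) 0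
  refine (LinearMap.injective_iff_surjective_of_finrank_eq_finrank ?_).1 (pairing_injective hn hc)
  rw [Module.finrank_linearMap, h1, mul_one, CurveLib.hMap_bijective_finrank (k := k) φ 0]
  exact finrank_top_eq e

theorem exists_hom_top (hn : 0 < n) {F : (PS).Modules} (hFc : Coh.IsCoh F)
    (l : Coh.HH PS F n →ₗ[k] Coh.HH PS ω n) : ∃ φ : F ⟶ ω, ∀ z, CurveLib.hMap (k := k) φ n z = l z := by
  classical
  haveI := CMRegLib.isNoetherian_projSpace (k := k) (n := n)
  obtain ⟨m, hm⟩ := HorrocksPnLib.exists_regular hFc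
  obtain ⟨b, q, hq, -⟩ := CMRegLib.exists_resolution hFc m hm
  choose φ hφ using fun j : Fin b => pairing_surjective_twist (k := k) hn (-m)
    ((l.comp (CurveLib.hMap (k := k) q n)).comp (CurveLib.hMap (k := k) (Sigma.ι (fun _ : Fin b => O(-m)) j) n))
  let π := Sigma.desc fun j : Fin b => homOf (O(-m)) (φ j)
  let p : Fin b → ((∐ fun _ : Fin b => O(-m)) ⟶ O(-m)) := fun j => Sigma.desc fun i => if i = j then 𝟙 _ else 0
  have htot : ∑ j, p j ≫ Sigma.ι (fun _ : Fin b => O(-m)) j = 𝟙 _ := by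
    refine Sigma.hom_ext _ _ fun i => ?_
    simp [p, Preadditive.comp_sum, ite_comp, Finset.sum_ite_eq]
  have hπ : ∀ z, CurveLib.hMap (k := k) π n z = l (CurveLib.hMap (k := k) q n z) := fun z => by
    rw [← HorrocksPnLib.hMap_id k _ n z, ← htot, HorrocksPnLib.hMap_sum, map_sum, map_sum, map_sum]
    refine Finset.sum_congr rfl fun j _ => ?_
    rw [HorrocksPnLib.hMap_comp, ← HorrocksPnLib.hMap_comp k (Sigma.ι _ j) π, Sigma.ι_desc]
    exact LinearMap.congr_fun (hφ j) _
  obtain ⟨N, hN⟩ : ∃ N, n = N + 1 := ⟨n - 1, by omega⟩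
  subst hN
  have hker : Coh.IsCoh (kernel q) := (QCohLib.isCoh_kernel_cokernel q
    (CMRegLib.isCoh_sigma_fin _ fun _ => CurveLib.isCoh_of_isInvertible (CMRegLib.isInvertible_O _)) hFc).1
  haveI := nontrivial_top (k := k) (n := N + 1)
  have hzero : kernel.ι q ≫ π = 0 :=
    HorrocksPnLib.eq_zero_of_hMap_top (k := k) (HorrocksPnLib.dim_PS rfl) hker (CMRegLib.isInvertible_O _) fun z => by
      rw [HorrocksPnLib.hMap_comp, hπ, ← HorrocksPnLib.hMap_comp, kernel.condition, HorrocksPnLib.hMap_zero, map_zero]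
  refine ⟨Abelian.epiDesc q π hzero, fun w => ?_⟩
  obtain ⟨z, rfl⟩ := HorrocksPnLib.hMap_top_surjective (k := k) (HorrocksPnLib.dim_PS rfl) q isClosed_empty
    (HorrocksPnLib.dim_le_of_notMem (HorrocksPnLib.dim_PS rfl) isClosed_empty id)
    (fun x _ => (PullbackMod.epi_iff_stalk q).1 hq x) w
  rw [← HorrocksPnLib.hMap_comp, Abelian.comp_epiDesc, hπ]

theorem pairing_bijective (hn : 0 < n) {F : (PS).Modules} (hFc : Coh.IsCoh F) :
    Function.Bijective (pairing (k := k) (n := n) F) := by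
  refine ⟨pairing_injective hn hFc, fun l => ?_⟩
  obtain ⟨φ, hφ⟩ := exists_hom_top hn hFc l
  obtain ⟨c, rfl⟩ := (homOf_bijective F).2 φ
  exact ⟨c, LinearMap.ext hφ⟩

/-- Duality in degree zero. -/
theorem finrank_hom_eq (hn : 0 < n) {F : (PS).Modules} (hFc : Coh.IsCoh F) :
    Module.finrank k (Coh.HH PS ((hF F).obj ω) 0) = Module.finrank k (Coh.HH PS F n) := by
  haveI := CMRegLib.isNoetherian_projSpace (k := k) (n := n)
  obtain ⟨v₀, hv₀, hv⟩ := HorrocksPnLib.exists_top_gen n k
  haveI := finite_top _ hFc n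
  haveI : Module.Finite k (Coh.HH PS ω n) :=
    finite_top _ (CurveLib.isCoh_of_isInvertible (CMRegLib.isInvertible_O _)) n
  rw [(LinearEquiv.ofBijective _ (pairing_bijective hn hFc)).finrank_eq, Module.finrank_linearMap,
    finrank_eq_one v₀ hv₀ hv, mul_one]

end Groth.Agent.ProjSerreLib
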