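import Groth.Agent.ProjSerreLib.Top
import Groth.Agent.HorrocksPnLib.Main
import Groth.Agent.DCohLib.TensorPerf
import Groth.Agent.HorrocksPnLib.SBTransfer

/-!
# Serre duality dimensions on projective space
-/

set_option autoImplicit false
set_option backward.isDefEq.respectTransparency false
set_option linter.style.haveILetI false
set_option maxHeartbeats 400000

universe u

open CategoryTheory CategoryTheory.Limits AlgebraicGeometry TopologicalSpace Opposite
open Groth.Agent.PullbackMod Groth.Agent.DCohLib Groth.Agent.StalkHomLib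

noncomputable section

namespace Groth.Agent.ProjSerreLib

section Count

variable (k : Type u) [Field k] {X : Scheme.{u}} [X.Over (Spec (CommRingCat.of k))]
  [IsProper (X ↘ Spec (CommRingCat.of k))] {S : ShortComplex X.Modules} (hS : S.ShortExact)
  (h₁ : Coh.IsCoh S.X₁) (h₂ : Coh.IsCoh S.X₂) (h₃ : Coh.IsCoh S.X₃)

omit [IsProper (X ↘ Spec (CommRingCat.of k))] in
theorem hMap_eq_zero_of_right {M N : X.Modules} (f : M ⟶ N) (p : ℕ) [Subsingleton (Coh.HH X N p)] :
    CurveLib.hMap (k := k) f p = 0 :=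
  LinearMap.ext fun _ => Subsingleton.elim _ _

omit [IsProper (X ↘ Spec (CommRingCat.of k))] in
include hS in
theorem injective_hδ (p : ℕ) [Subsingleton (Coh.HH X S.X₂ p)] :
    Function.Injective (CurveLib.hδ (k := k) hS p) := by
  rw [← LinearMap.ker_eq_bot, ← CurveLib.range_hMap_g, LinearMap.range_eq_bot]
  exact LinearMap.ext fun z => by rw [Subsingleton.elim z 0, map_zero, map_zero]

omit [IsProper (X ↘ Spec (CommRingCat.of k))] in
include hS in
theorem finrank_shift (p : ℕ) [Subsingleton (Coh.HH X S.X₂ p)] [Subsingleton (Coh.HH X S.X₂ (p + 1))] :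
    Module.finrank k (Coh.HH X S.X₃ p) = Module.finrank k (Coh.HH X S.X₁ (p + 1)) := by
  refine (LinearEquiv.ofBijective (CurveLib.hδ (k := k) hS p) ⟨injective_hδ k hS p, ?_⟩).finrank_eq
  rw [← LinearMap.range_eq_top, CurveLib.range_hδ, hMap_eq_zero_of_right, LinearMap.ker_zero]

include hS h₁ h₂ h₃ in
theorem finrank_four (p : ℕ) [Subsingleton (Coh.HH X S.X₂ p)] [Subsingleton (Coh.HH X S.X₁ (p + 2))] :
    Module.finrank k (Coh.HH X S.X₃ p) + Module.finrank k (Coh.HH X S.X₂ (p + 1)) =
      Module.finrank k (Coh.HH X S.X₁ (p + 1)) + Module.finrank k (Coh.HH X S.X₃ (p + 1)) := by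
  haveI := EulerIneqLib.isNoetherian_proper (X := X) k
  haveI := fun q => EulerIneqLib.finite_HH (k := k) h₁ q
  haveI := fun q => EulerIneqLib.finite_HH (k := k) h₂ q
  haveI := fun q => EulerIneqLib.finite_HH (k := k) h₃ q
  have e1 := LinearMap.finrank_range_add_finrank_ker (CurveLib.hMap (k := k) S.f (p + 1))
  have e2 := LinearMap.finrank_range_add_finrank_ker (CurveLib.hMap (k := k) S.g (p + 1))
  rw [← CurveLib.range_hδ hS, LinearMap.finrank_range_of_inj (injective_hδ k hS p)] at e1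
  rw [← CurveLib.range_hMap_f hS] at e2
  have htop : LinearMap.range (CurveLib.hMap (k := k) S.g (p + 1)) = ⊤ := by
    rw [CurveLib.range_hMap_g (hS := hS), LinearMap.ker_eq_top]
    exact LinearMap.ext fun _ => @Subsingleton.elim (Coh.HH X S.X₁ (p + 2)) _ _ _
  rw [htop, finrank_top] at e2
  omega

include hS h₁ h₂ h₃ in
theorem finrank_bottom [Subsingleton (Coh.HH X S.X₂ 1)] :
    Module.finrank k (Coh.HH X S.X₁ 1) + Module.finrank k (Coh.HH X S.X₂ 0) =
      Module.finrank k (Coh.HH X S.X₁ 0) + Module.finrank k (Coh.HH X S.X₃ 0) := by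
  haveI := EulerIneqLib.isNoetherian_proper (X := X) k
  haveI := fun q => EulerIneqLib.finite_HH (k := k) h₁ q
  haveI := fun q => EulerIneqLib.finite_HH (k := k) h₂ q
  haveI := fun q => EulerIneqLib.finite_HH (k := k) h₃ q
  have e1 := LinearMap.finrank_range_add_finrank_ker (CurveLib.hMap (k := k) S.g 0)
  have e2 := LinearMap.finrank_range_add_finrank_ker (CurveLib.hδ (k := k) hS 0)
  rw [← CurveLib.range_hMap_f hS, LinearMap.finrank_range_of_inj (CurveLib.hMap_f_zero_injective hS)] at e1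
  rw [← CurveLib.range_hMap_g (hS := hS)] at e2
  have htop : LinearMap.range (CurveLib.hδ (k := k) hS 0) = ⊤ := by
    rw [CurveLib.range_hδ, LinearMap.ker_eq_top]
    exact LinearMap.ext fun _ => @Subsingleton.elim (Coh.HH X S.X₂ 1) _ _ _
  rw [htop, finrank_top] at e2
  have e : Module.finrank k (Coh.HH X S.X₁ (0 + 1)) = Module.finrank k (Coh.HH X S.X₁ 1) := rfl
  omega

end Count

theorem flf_hF_generic {Y : Scheme.{u}} {F N : Y.Modules} [ModSite.HasSheafHom (O := Y.sheaf) F]
    (hF : FlatMod.IsFinLocFree F) (hN : FlatMod.IsFinLocFree N) :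
    FlatMod.IsFinLocFree ((StalkHomLib.hF F).obj N) :=
by
  haveI := LocFreeHomLib.isIso_alpha F hF N
  have h : FlatMod.IsFinLocFree (CohB1.tensorMod N (LocFreeHomLib.dualE F)) :=
    DCohLib.isFinLocFree_tensor hN (DCohMore.isFinLocFree_dual F hF)
  exact DCohLib.isFinLocFree_iso (asIso (LocFreeHomLib.alpha F N)) h

variable {k : Type u} [Field k] {n : ℕ}

local notation "PS" => CohB1.ProjSpace n k
local notation "O(" d ")" => Twist.twistProjSpace n k d
local notation "ω" => Twist.twistProjSpace n k (-((n : ℤ) + 1))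

local instance hasHFPS'' (M : (PS).Modules) : ModSite.HasSheafHom (O := (PS).sheaf) M :=
  ModTensor.hasSheafHom (O := (PS).sheaf) M

theorem flf_O (c : ℤ) : FlatMod.IsFinLocFree (O(c)) :=
  CurveLib.isFinLocFree_of_isInvertible (CMRegLib.isInvertible_O c)

theorem flf_hF {F : (PS).Modules} (hF : FlatMod.IsFinLocFree F) (c : ℤ) :
    FlatMod.IsFinLocFree ((StalkHomLib.hF F).obj (O(c))) :=
  flf_hF_generic hF (flf_O c)

theorem subsingleton_sigma {b : ℕ} (f : Fin b → (PS).Modules) {i : ℕ}
    (h : ∀ j, Subsingleton (Coh.HH PS (f j) i)) : Subsingleton (Coh.HH PS (∐ f) i) := by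
  classical
  refine subsingleton_of_forall_eq 0 fun z => ?_
  let p : ∀ j, (∐ f) ⟶ f j := fun j => Sigma.desc fun i => if e : i = j then eqToHom (congrArg f e) else 0
  have htot : ∑ j, p j ≫ Sigma.ι f j = 𝟙 _ := by
    refine Sigma.hom_ext _ _ fun i => ?_
    simp [p, Preadditive.comp_sum, dite_comp, Finset.sum_dite_eq]
  rw [← HorrocksPnLib.hMap_id k _ i z, ← htot, HorrocksPnLib.hMap_sum]
  refine Finset.sum_eq_zero fun j _ => ?_
  rw [HorrocksPnLib.hMap_comp, @Subsingleton.elim _ (h j) (CurveLib.hMap (k := k) (p j) i z) 0, map_zero]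

theorem subsingleton_hF_sigma {b : ℕ} (a N : ℤ) {i : ℕ} (hi : Subsingleton (Coh.HH PS (O(N + -a)) i)) :
    Subsingleton (Coh.HH PS ((hF (∐ fun _ : Fin b => O(a))).obj (O(N))) i) := by
  classical
  obtain ⟨φ⟩ := nonempty_hF_twist (k := k) (n := n) a N
  haveI := @ProjCoh.subsingleton_of_iso _ _ _ φ.symm i hi
  refine subsingleton_of_forall_eq 0 fun z => ?_
  have hP : FlatMod.IsFinLocFree (∐ fun _ : Fin b => O(a)) := DCohLib.isFinLocFree_sigma b _ fun _ => flf_O a
  let p : Fin b → ((∐ fun _ : Fin b => O(a)) ⟶ O(a)) := fun j => Sigma.desc fun i => if i = j then 𝟙 _ else 0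
  have htot : ∑ j, p j ≫ Sigma.ι (fun _ : Fin b => O(a)) j = 𝟙 _ := by
    refine Sigma.hom_ext _ _ fun i => ?_
    simp [p, Preadditive.comp_sum, ite_comp, Finset.sum_ite_eq]
  rw [← HorrocksPnLib.hMap_id k _ i z, ← preMap_id _ hP, ← htot, preMap_sum _ _ _ hP, HorrocksPnLib.hMap_sum]
  refine Finset.sum_eq_zero fun j _ => ?_
  rw [preMap_comp _ _ _ hP, HorrocksPnLib.hMap_comp,
    Subsingleton.elim (CurveLib.hMap (k := k) (preMap (Sigma.ι (fun _ : Fin b => O(a)) j) (O(N))) i z) 0, map_zero]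

/-- The data of a resolution step. -/
theorem exists_step (hn : 0 < n) {F : (PS).Modules} (hF : FlatMod.IsFinLocFree F) :
    ∃ (S : ShortComplex (PS).Modules) (h₁ : FlatMod.IsFinLocFree S.X₁), S.ShortExact ∧ FlatMod.IsFinLocFree S.X₂ ∧
      S.X₃ = F ∧ (∀ q, q < n → Subsingleton (Coh.HH PS S.X₂ q)) ∧
      (∀ q, 1 ≤ q → Subsingleton (Coh.HH PS ((StalkHomLib.hF S.X₂).obj ω) q)) := by
  haveI := CMRegLib.isNoetherian_projSpace (k := k) (n := n)
  have hFc : Coh.IsCoh F := CurveLib.isCoh_of_isFinLocFree hF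
  obtain ⟨m₀, hm₀⟩ := HorrocksPnLib.exists_regular hFc
  have hm := CMRegLib.regular_mono hFc (le_max_left m₀ 1) hm₀
  obtain ⟨b, φ, hφ, -⟩ := CMRegLib.exists_resolution hFc _ hm
  have h2 : FlatMod.IsFinLocFree (∐ fun _ : Fin b => O(-max m₀ 1)) := DCohLib.isFinLocFree_sigma b _ fun _ => flf_O _
  have hS := CMRegLib.shortExact_ker φ
  refine ⟨_, DCohLib.isFinLocFree_of_shortExact hS h2 hF, hS, h2, rfl, fun q hq => ?_, fun q hq => ?_⟩
  · refine subsingleton_sigma _ fun _ => subsingleton_twist hn _ ?_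
    rcases Nat.eq_zero_or_pos q with rfl | hq0
    · exact Or.inr ⟨rfl, by omega⟩
    · exact Or.inl ⟨by omega, Or.inr (by omega)⟩
  · exact subsingleton_hF_sigma _ _ (subsingleton_twist hn _ (Or.inl ⟨by omega, Or.inl (by omega)⟩))

/-- Serre duality, as an equality of dimensions. -/
theorem finrank_duality (hn : 0 < n) : ∀ (j : ℕ), j ≤ n → ∀ (F : (PS).Modules), FlatMod.IsFinLocFree F →
    Module.finrank k (Coh.HH PS F (n - j)) = Module.finrank k (Coh.HH PS ((hF F).obj ω) j) := by
  haveI := CMRegLib.isNoetherian_projSpace (k := k) (n := n)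
  intro j
  induction j with
  | zero => exact fun _ F hF => (finrank_hom_eq hn (CurveLib.isCoh_of_isFinLocFree hF)).symm
  | succ j ih =>
    intro hj F hF
    obtain ⟨S, h1, hS, h2, h3, hP, hP'⟩ := exists_step hn hF
    subst h3
    obtain ⟨p, hp⟩ : ∃ p, n = p + (j + 1) := ⟨n - (j + 1), by omega⟩
    have hS' := shortExact_homSeq ω hS h1 h2 hF
    rcases Nat.eq_zero_or_pos j with rfl | hj0
    · rw [show n - (0 + 1) = p by omega]
      haveI := hP p (by omega)
      haveI : Subsingleton (Coh.HH PS S.X₁ (p + 2)) :=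
        CurveLib.subsingleton_HH_of_dim _ (d := n) (by rw [S10829.result k n]) (by omega)
      haveI : Subsingleton (Coh.HH PS (homSeq ω S h1).X₂ 1) := hP' 1 le_rfl
      have e1 := finrank_four k hS (CurveLib.isCoh_of_isFinLocFree h1) (CurveLib.isCoh_of_isFinLocFree h2)
        (CurveLib.isCoh_of_isFinLocFree hF) p
      have e2 := finrank_bottom k hS' (CurveLib.isCoh_of_isFinLocFree (flf_hF hF _))
        (CurveLib.isCoh_of_isFinLocFree (flf_hF h2 _)) (CurveLib.isCoh_of_isFinLocFree (flf_hF h1 _))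
      have d1 := finrank_hom_eq (k := k) hn (CurveLib.isCoh_of_isFinLocFree h1)
      have d2 := finrank_hom_eq (k := k) hn (CurveLib.isCoh_of_isFinLocFree h2)
      have d3 := finrank_hom_eq (k := k) hn (CurveLib.isCoh_of_isFinLocFree hF)
      rw [show p + 1 = n by omega] at e1
      dsimp only [homSeq] at e2
      have e : Module.finrank k (Coh.HH PS ((StalkHomLib.hF S.X₃).obj ω) (0 + 1)) =
          Module.finrank k (Coh.HH PS ((StalkHomLib.hF S.X₃).obj ω) 1) := rfl
      omega
    · rw [show n - (j + 1) = p by omega]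
      haveI := hP p (by omega)
      haveI := hP (p + 1) (by omega)
      haveI : Subsingleton (Coh.HH PS (homSeq ω S h1).X₂ j) := hP' j hj0
      haveI : Subsingleton (Coh.HH PS (homSeq ω S h1).X₂ (j + 1)) := hP' (j + 1) (by omega)
      have e1 := finrank_shift k hS p
      have e2 := finrank_shift k hS' j
      have e3 := ih (by omega) S.X₁ h1
      rw [show n - j = p + 1 by omega] at e3
      rw [e1, e3]
      exact e2

/-- Serre duality on projective space. -/
theorem finrank_duality' (hn : 0 < n) {i : ℕ} (hi : i ≤ n) {F : (PS).Modules} (hF : FlatMod.IsFinLocFree F) :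
    Module.finrank k (Coh.HH PS F i) = Module.finrank k (Coh.HH PS ((StalkHomLib.hF F).obj ω) (n - i)) := by
  have h := finrank_duality hn (n - i) (Nat.sub_le _ _) F hF
  rwa [Nat.sub_sub_self hi] at h

end Groth.Agent.ProjSerreLib
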