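import Groth.Agent.S11314
import Groth.Agent.ProjSerreLib.Main
import Groth.Agent.LocFreeHomLib.Ext
import Groth.Agent.DCohLib.GammaVanish
import Groth.Prelude.Def_KLin
import Mathlib.Algebra.Homology.DerivedCategory.Ext.Linear

/-!
# Serre duality for Ext groups on projective space
-/

set_option autoImplicit false
set_option backward.isDefEq.respectTransparency false
set_option linter.style.haveILetI false
set_option maxHeartbeats 400000

universe u

open CategoryTheory CategoryTheory.Limits AlgebraicGeometry TopologicalSpace Opposite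
open Groth.Agent.PullbackMod Groth.Agent.DCohLib

noncomputable section

namespace Groth.Agent.ProjSerreLib

section Count

variable {k : Type u} [Field k] {C : Type*} [Category C] [Abelian C] [Linear k C] [HasExt.{u} C]
  {S : ShortComplex C} (hS : S.ShortExact) (Y : C)

open Abelian (Ext)

include hS in
theorem ext_shift {i : ℕ} (h₀ : Subsingleton (Ext.{u} S.X₂ Y i)) (h₁ : Subsingleton (Ext.{u} S.X₂ Y (i + 1))) :
    Nonempty (Ext.{u} S.X₁ Y i ≃ₗ[k] Ext.{u} S.X₃ Y (i + 1)) := by
  refine ⟨LinearEquiv.ofBijective (hS.extClass.precompOfLinear k Y (add_comm 1 i)) ⟨?_, fun x => ?_⟩⟩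
  · refine (injective_iff_map_eq_zero _).2 fun x hx => ?_
    obtain ⟨y, rfl⟩ := Ext.contravariant_sequence_exact₁ hS Y x (add_comm 1 i) hx
    rw [Subsingleton.elim y 0, Ext.comp_zero]
  · exact Ext.contravariant_sequence_exact₃ hS Y x (Subsingleton.elim _ _) (add_comm 1 i)

include hS in
theorem ext_bottom (h₁ : Subsingleton (Ext.{u} S.X₂ Y 1)) [Module.Finite k (Ext.{u} S.X₁ Y 0)]
    [Module.Finite k (Ext.{u} S.X₂ Y 0)] [Module.Finite k (Ext.{u} S.X₃ Y 0)] :
    Module.Finite k (Ext.{u} S.X₃ Y 1) ∧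
      Module.finrank k (Ext.{u} S.X₃ Y 1) + Module.finrank k (Ext.{u} S.X₂ Y 0) =
        Module.finrank k (Ext.{u} S.X₁ Y 0) + Module.finrank k (Ext.{u} S.X₃ Y 0) := by
  let g := (Ext.mk₀ S.g).precompOfLinear k Y (zero_add 0)
  let f := (Ext.mk₀ S.f).precompOfLinear k Y (zero_add 0)
  let δ := hS.extClass.precompOfLinear k Y (add_zero 1)
  haveI := hS.epi_g
  have hg : Function.Injective g := Ext.precomp_mk₀_injective_of_epi Y S.g
  have hfg : LinearMap.ker f = LinearMap.range g := by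
    refine le_antisymm (fun x hx => Ext.contravariant_sequence_exact₂ hS Y x hx) ?_
    rintro _ ⟨x, rfl⟩
    show (Ext.mk₀ S.f).comp ((Ext.mk₀ S.g).comp x (zero_add 0)) (zero_add 0) = 0
    rw [← Ext.comp_assoc_of_second_deg_zero, Ext.mk₀_comp_mk₀, S.zero, Ext.mk₀_zero, Ext.zero_comp]
  have hδf : LinearMap.ker δ = LinearMap.range f := by
    refine le_antisymm (fun x hx => Ext.contravariant_sequence_exact₁ hS Y x (add_zero 1) hx) ?_
    rintro _ ⟨x, rfl⟩
    show hS.extClass.comp ((Ext.mk₀ S.f).comp x (zero_add 0)) (add_zero 1) = 0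
    rw [← Ext.comp_assoc_of_second_deg_zero, hS.extClass_comp, Ext.zero_comp]
  have hδ : Function.Surjective δ := fun x => Ext.contravariant_sequence_exact₃ hS Y x (Subsingleton.elim _ _) (add_zero 1)
  haveI : Module.Finite k (Ext.{u} S.X₃ Y 1) := Module.Finite.of_surjective δ hδ
  refine ⟨inferInstance, ?_⟩
  have e1 := LinearMap.finrank_range_add_finrank_ker f
  have e2 := LinearMap.finrank_range_add_finrank_ker δ
  rw [hfg, LinearMap.finrank_range_of_inj hg] at e1
  rw [hδf, LinearMap.range_eq_top.2 hδ, finrank_top] at e2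
  omega

end Count

variable {k : Type u} [Field k] {n : ℕ}

local notation "PS" => CohB1.ProjSpace n k
local notation "O(" d ")" => Twist.twistProjSpace n k d
local notation "ω" => Twist.twistProjSpace n k (-((n : ℤ) + 1))

variable [HasExt.{u} (CohB1.ProjSpace n k).Modules]

open Abelian (Ext)

local instance hasHFPS3 (M : (PS).Modules) : ModSite.HasSheafHom (O := (PS).sheaf) M :=
  ModTensor.hasSheafHom (O := (PS).sheaf) M

theorem subsingleton_ext_flf {P : (PS).Modules} (hP : FlatMod.IsFinLocFree P) {G : (PS).Modules} {i : ℕ}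
    (h : Subsingleton (Coh.HH PS ((StalkHomLib.hF P).obj G) i)) : Subsingleton (Ext.{u} P G i) := by
  haveI := DCohLib.subsingleton_ext_unit _ i h
  obtain ⟨e⟩ := LocFreeHomLib.nonempty_ext_hF P hP (Coh.structureModule PS) G i
  haveI := e.symm.toEquiv.subsingleton
  refine subsingleton_of_forall_eq 0 fun x => ?_
  have h1 : (Ext.mk₀ (AmpleLib.unitL P).inv).comp ((Ext.mk₀ (AmpleLib.unitL P).hom).comp x (zero_add i)) (zero_add i) = x := by
    rw [← Ext.comp_assoc_of_second_deg_zero, Ext.mk₀_comp_mk₀, Iso.inv_hom_id, Ext.mk₀_id_comp]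
  rw [← h1, @Subsingleton.elim _ (e.symm.toEquiv.subsingleton) ((Ext.mk₀ (AmpleLib.unitL P).hom).comp x (zero_add i)) 0, Ext.comp_zero]

omit [HasExt.{u} (CohB1.ProjSpace n k).Modules] in
theorem klin_smul {F : (PS).Modules} (r : k) (φ : F ⟶ ω) : r • φ = φ ≫ (VBLib.cst k ω r : ω ⟶ ω) := by
  rw [← VBLib.cst_natural k φ r]
  refine Scheme.Modules.hom_ext _ _ fun U => AddCommGrpCat.hom_ext (AddMonoidHom.ext fun s => ?_)
  show (r • φ).app U s = φ.app U ((FactorOne.mulEnd F _).app U s)
  rw [KLin.smul_app_apply, FactorOne.mulEnd_app, Scheme.Modules.Hom.app_smul]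

omit [HasExt.{u} (CohB1.ProjSpace n k).Modules] in
/-- Degree zero, linearly. -/
theorem nonempty_hom_dual {F : (PS).Modules} (hF : Coh.IsCoh F) :
    Nonempty ((F ⟶ ω) ≃ₗ[k] Module.Dual k (Coh.HH PS F n)) := by
  obtain ⟨t, ht⟩ := S11314.result k n
  let Φ : (F ⟶ ω) →ₗ[k] Module.Dual k (Coh.HH PS F n) :=
    { toFun := fun φ => t.comp (CurveLib.hMap (k := k) φ n)
      map_add' := fun a b => LinearMap.ext fun z =>
        (congrArg t (HorrocksPnLib.hMap_add k a b n z)).trans (map_add t _ _)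
      map_smul' := fun r a => LinearMap.ext fun z => by
        show t (CurveLib.hMap (k := k) (r • a) n z) = r • t (CurveLib.hMap (k := k) a n z)
        rw [klin_smul, HorrocksPnLib.hMap_comp, HorrocksPnLib.hMap_cst, map_smul] }
  refine ⟨LinearEquiv.ofBijective Φ ⟨fun a b hab => ?_, fun ψ => ?_⟩⟩
  · exact (ht F hF (Φ a)).unique (fun x => rfl) (fun x => LinearMap.congr_fun hab x)
  · obtain ⟨φ, hφ, -⟩ := ht F hF ψ
    exact ⟨φ, LinearMap.ext fun x => (hφ x).symm⟩

theorem finite_ext_zero {F : (PS).Modules} (hF : Coh.IsCoh F) :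
    Module.Finite k (Ext.{u} F ω 0) ∧ Module.finrank k (Ext.{u} F ω 0) = Module.finrank k (Coh.HH PS F n) := by
  haveI := EulerIneqLib.finite_HH (k := k) hF n
  obtain ⟨e⟩ := nonempty_hom_dual hF
  let e' : Ext.{u} F ω 0 ≃ₗ[k] Module.Dual k (Coh.HH PS F n) := (Ext.linearEquiv₀ (R := k)).trans e
  exact ⟨Module.Finite.equiv e'.symm, e'.finrank_eq.trans (Subspace.dual_finrank_eq)⟩

/-- A resolution step for coherent modules. -/
theorem exists_step_coh (hn : 0 < n) {F : (PS).Modules} (hF : Coh.IsCoh F) :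
    ∃ S : ShortComplex (PS).Modules, S.ShortExact ∧ S.X₃ = F ∧ Coh.IsCoh S.X₁ ∧ Coh.IsCoh S.X₂ ∧
      (∀ q, q < n → Subsingleton (Coh.HH PS S.X₂ q)) ∧ ∀ i, 1 ≤ i → Subsingleton (Ext.{u} S.X₂ ω i) := by
  haveI := CMRegLib.isNoetherian_projSpace (k := k) (n := n)
  obtain ⟨m₀, hm₀⟩ := HorrocksPnLib.exists_regular hF
  have hm := CMRegLib.regular_mono hF (le_max_left m₀ 1) hm₀
  obtain ⟨b, φ, hφ, -⟩ := CMRegLib.exists_resolution hF _ hm
  have hflf : FlatMod.IsFinLocFree (∐ fun _ : Fin b => O(-max m₀ 1)) := DCohLib.isFinLocFree_sigma b _ fun _ => flf_O _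
  have hc := CurveLib.isCoh_of_isFinLocFree hflf
  refine ⟨_, CMRegLib.shortExact_ker φ, rfl, (QCohLib.isCoh_kernel_cokernel φ hc hF).1, hc, fun q hq => ?_, fun i hi => ?_⟩
  · refine subsingleton_sigma _ fun _ => subsingleton_twist hn _ ?_
    rcases Nat.eq_zero_or_pos q with rfl | hq0
    · exact Or.inr ⟨rfl, by omega⟩
    · exact Or.inl ⟨by omega, Or.inr (by omega)⟩
  · exact subsingleton_ext_flf hflf (subsingleton_hF_sigma _ _ (subsingleton_twist hn _ (Or.inl ⟨by omega, Or.inl (by omega)⟩)))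

theorem ext_dim (hn : 0 < n) : ∀ (i : ℕ), i ≤ n → ∀ F : (PS).Modules, Coh.IsCoh F →
    Module.Finite k (Ext.{u} F ω i) ∧ Module.finrank k (Ext.{u} F ω i) = Module.finrank k (Coh.HH PS F (n - i)) := by
  haveI := CMRegLib.isNoetherian_projSpace (k := k) (n := n)
  intro i
  induction i with
  | zero => exact fun _ F hF => finite_ext_zero hF
  | succ i ih =>
    intro hi F hF
    obtain ⟨S, hS, h3, hc1, hc2, hP, hE⟩ := exists_step_coh (k := k) hn hF
    subst h3
    obtain ⟨p, hp⟩ : ∃ p, n = p + (i + 1) := ⟨n - (i + 1), by omega⟩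
    rcases Nat.eq_zero_or_pos i with rfl | hi0
    · haveI := (finite_ext_zero hc1).1
      haveI := (finite_ext_zero hc2).1
      haveI := (finite_ext_zero hF).1
      obtain ⟨hfin, e⟩ := ext_bottom (k := k) hS ω (hE 1 le_rfl)
      refine ⟨hfin, ?_⟩
      haveI := hP p (by omega)
      haveI : Subsingleton (Coh.HH PS S.X₁ (p + 2)) :=
        CurveLib.subsingleton_HH_of_dim _ (d := n) (by rw [S10829.result k n]) (by omega)
      have e1 := finrank_four k hS hc1 hc2 hF p
      rw [(finite_ext_zero hc1).2, (finite_ext_zero hc2).2, (finite_ext_zero hF).2] at e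
      rw [show p + 1 = n by omega] at e1
      rw [show n - (0 + 1) = p by omega]
      have : Module.finrank k (Ext.{u} S.X₃ ω (0 + 1)) = Module.finrank k (Ext.{u} S.X₃ ω 1) := rfl
      omega
    · obtain ⟨hf, hd⟩ := ih (by omega) S.X₁ hc1
      obtain ⟨e⟩ := ext_shift (k := k) hS ω (hE i hi0) (hE (i + 1) (by omega))
      haveI := hf
      refine ⟨Module.Finite.equiv e, ?_⟩
      haveI := hP p (by omega)
      haveI := hP (p + 1) (by omega)
      rw [← e.finrank_eq, hd, show n - i = p + 1 by omega, show n - (i + 1) = p by omega, finrank_shift k hS p]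

theorem ext_vanish (hn : 0 < n) : ∀ (i : ℕ), n < i → ∀ F : (PS).Modules, Coh.IsCoh F → Subsingleton (Ext.{u} F ω i) := by
  haveI := CMRegLib.isNoetherian_projSpace (k := k) (n := n)
  intro i hi
  induction i, (Nat.succ_le_of_lt hi) using Nat.le_induction with
  | base =>
    intro F hF
    obtain ⟨S, hS, h3, hc1, hc2, hP, hE⟩ := exists_step_coh (k := k) hn hF
    subst h3
    obtain ⟨hf, hd⟩ := ext_dim hn n le_rfl S.X₁ hc1
    obtain ⟨e⟩ := ext_shift (k := k) hS ω (hE n hn) (hE (n + 1) (by omega))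
    haveI := hf
    haveI : Subsingleton (Coh.HH PS S.X₂ 0) := hP 0 hn
    have h0 : Subsingleton (Coh.HH PS S.X₁ 0) := (CurveLib.hMap_f_zero_injective (k := k) hS).subsingleton
    have : Module.finrank k (Ext.{u} S.X₁ ω n) = 0 := by
      rw [hd, Nat.sub_self, Module.finrank_zero_of_subsingleton]
    haveI := Module.finrank_zero_iff.1 this
    exact e.symm.toEquiv.subsingleton
  | succ j hj ih =>
    intro F hF
    obtain ⟨S, hS, h3, hc1, -, -, hE⟩ := exists_step_coh (k := k) hn hF
    subst h3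
    obtain ⟨e⟩ := ext_shift (k := k) hS ω (hE j (by omega)) (hE (j + 1) (by omega))
    haveI := ih (by omega) S.X₁ hc1
    exact e.symm.toEquiv.subsingleton

theorem ext_point {n : ℕ} (hn : n = 0) [HasExt.{u} (CohB1.ProjSpace n k).Modules] {F : (CohB1.ProjSpace n k).Modules}
    (hF : Coh.IsCoh F) {i : ℕ} (hi : 0 < i) :
    Subsingleton (Ext.{u} F (Twist.twistProjSpace n k (-((n : ℤ) + 1))) i) := by
  subst hn
  haveI := CMRegLib.isNoetherian_projSpace (k := k) (n := 0)
  obtain ⟨r, ⟨φ⟩⟩ := exists_free_iso_point hF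
  have hflf := DCohLib.isFinLocFree_iso φ.symm (DCohLib.isFinLocFree_freeMod r)
  exact subsingleton_ext_flf hflf (CurveLib.subsingleton_HH_of_dim _ (d := 0) (by rw [S10829.result k 0]) hi)

/-- Serre duality for Ext on projective space. -/
theorem ext_duality {F : (PS).Modules} (hF : Coh.IsCoh F) :
    (∀ i : ℕ, i ≤ n → Nonempty (Ext.{u} F ω i ≃ₗ[k] Module.Dual k (Coh.HH PS F (n - i)))) ∧
      ∀ i : ℕ, n < i → Subsingleton (Ext.{u} F ω i) := by
  haveI := CMRegLib.isNoetherian_projSpace (k := k) (n := n)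
  refine ⟨fun i hi => ?_, fun i hi => ?_⟩
  · haveI := EulerIneqLib.finite_HH (k := k) hF (n - i)
    obtain ⟨hf, hd⟩ : Module.Finite k (Ext.{u} F ω i) ∧
        Module.finrank k (Ext.{u} F ω i) = Module.finrank k (Coh.HH PS F (n - i)) := by
      rcases Nat.eq_zero_or_pos n with h0 | hn
      · obtain rfl : i = 0 := by omega
        exact finite_ext_zero hF
      · exact ext_dim hn i hi F hF
    haveI := hf
    exact ⟨LinearEquiv.ofFinrankEq _ _ (hd.trans Subspace.dual_finrank_eq.symm)⟩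
  · rcases Nat.eq_zero_or_pos n with h0 | hn
    · exact ext_point h0 hF (by omega)
    · exact ext_vanish hn i hi F hF

end Groth.Agent.ProjSerreLib
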