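import Groth.Agent.S2943
import Groth.Agent.InjHullLib.Basic
import Groth.Agent.GorLib.DepthVanish
import Groth.Agent.LocCohLib.ExtComp
import Groth.Agent.LocCohLib.Vanishing
import Groth.Agent.ExtShLib.Sections

/-!
# Local duality as a vanishing criterion
-/

set_option autoImplicit false
set_option linter.style.haveILetI false

universe u

open CategoryTheory CategoryTheory.Limits Opposite

noncomputable section

namespace Groth.Agent.ProjSerreLib

variable (A : Type u) [CommRing A] [IsRegularLocalRing A] (r : ℕ) (M : Type u) [AddCommGroup M] [Module A M]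
  [Module.Finite A M]

theorem subsingleton_H_iff_ext (hr : ringKrullDim A = r) {i : ℕ} (hi : i ≤ r) :
    Subsingleton (LocCoh.H (IsLocalRing.maximalIdeal A) i M) ↔
      Subsingleton (Abelian.Ext.{u} (ModuleCat.of A M) (ModuleCat.of A A) (r - i)) := by
  obtain ⟨E, _, _, f, hf⟩ := InjHullLib.exists_injectiveHull (R := A) (IsLocalRing.ResidueField A)
  obtain ⟨e⟩ := S2943.result A r hr E f hf M i hi
  let c := LocCohLib.extComp (ModuleCat.of A M) (ModuleCat.of A A) (r - i)
  constructor
  · intro h
    refine @Equiv.subsingleton _ _ c.symm.toEquiv (subsingleton_of_forall_eq 0 fun x => ?_)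
    by_contra hx
    obtain ⟨g, hg⟩ := InjHullLib.exists_ne_zero hf hx
    haveI := e.symm.toEquiv.subsingleton
    exact hg (by rw [Subsingleton.elim g 0, LinearMap.zero_apply])
  · intro h
    haveI := c.toEquiv.subsingleton
    exact e.toEquiv.subsingleton

theorem subsingleton_H_of_dim_lt (hr : ringKrullDim A = r) {i : ℕ} (hi : r < i) :
    Subsingleton (LocCoh.H (IsLocalRing.maximalIdeal A) i M) :=
  LocCohLib.cdLE_of_ringKrullDim_local (IsLocalRing.maximalIdeal A) r hr.le M i hi

end Groth.Agent.ProjSerreLib
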