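import Groth.Agent.ProjSerreLib.GammaExt
import Groth.Agent.ProjSerreLib.Ext
import Groth.Agent.ProjSerreLib.LocalDual
import Groth.Agent.BoundaryConn.Main
import Groth.Agent.ExtShLib.Local
import Groth.Agent.ParaFLib.Stalk
import Groth.Agent.S1535
import Groth.Agent.ProjSmoothLib.Basic
import Groth.Agent.PicProjLib.Chart
import Groth.Agent.HorrocksPnLib.Coherent
import Groth.Agent.PullbackMod.SuppClosed

/-!
# Vanishing of negative twists and Ext sheaves on projective space
-/

set_option autoImplicit false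
set_option backward.isDefEq.respectTransparency false
set_option linter.style.haveILetI false
set_option maxHeartbeats 400000

universe u

open CategoryTheory CategoryTheory.Limits AlgebraicGeometry TopologicalSpace Opposite
open Groth.Agent.PullbackMod Groth.Agent.DCohLib Groth.Agent.StalkHomLib

noncomputable section

namespace Groth.Agent.ProjSerreLib

variable {k : Type u} [Field k] {n : ℕ}

local notation "PS" => CohB1.ProjSpace n k
local notation "O(" d ")" => Twist.twistProjSpace n k d
local notation "ω" => Twist.twistProjSpace n k (-((n : ℤ) + 1))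

local instance hasHFPS4 (M : (PS).Modules) : ModSite.HasSheafHom (O := (PS).sheaf) M :=
  ModTensor.hasSheafHom (O := (PS).sheaf) M

theorem regular_stalk (x : PS) : IsRegularLocalRing ((PS).presheaf.stalk x) := by
  haveI : Smooth (PS ↘ Spec (CommRingCat.of k)) := ProjSmoothLib.smooth_toSpec n k
  exact S1535.result k PS x

theorem dim_closed_point {x : PS} (hx : IsClosed ({x} : Set (PS))) :
    ringKrullDim ((PS).presheaf.stalk x) = (n : WithBot ℕ∞) := by
  haveI := PicProjLib.isIntegral_projSpace (n := n) (R := k)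
  rw [BoundaryConn.ringKrullDim_stalk_closed (CohB1.ProjSpace.toSpec n k) x hx, S10829.result k n]

theorem isZero_of_closed_stalks {X : Scheme.{u}} [CompactSpace X] {M : X.Modules} (hM : Coh.IsCoh M)
    (h : ∀ x : X, IsClosed ({x} : Set X) → Subsingleton (M.presheaf.stalk x)) : IsZero M := by
  refine isZero_of_stalks fun x => ?_
  by_contra hx
  have hx' : x ∈ CohB1.support M := hx
  obtain ⟨y, hy, hyc⟩ := (isClosed_closure (s := ({x} : Set X))).exists_closed_singleton ⟨x, subset_closure rfl⟩
  have hy' : y ∈ CohB1.support M := (isClosed_support_of_isFT hM.2).closure_subset_iff.2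
    (Set.singleton_subset_iff.2 hx') hy
  exact hy' (h y hyc)

theorem subsingleton_ext_iso {C : Type*} [Category C] [Abelian C] [HasExt.{u} C] {A A' B B' : C}
    (a : A ≅ A') (b : B ≅ B') (q : ℕ) (h : Subsingleton (Abelian.Ext.{u} A' B' q)) :
    Subsingleton (Abelian.Ext.{u} A B q) := by
  refine subsingleton_of_forall_eq 0 fun x => ?_
  have h0 := @Subsingleton.elim _ h
    ((Abelian.Ext.mk₀ a.inv).comp (x.comp (Abelian.Ext.mk₀ b.hom) (add_zero q)) (zero_add q)) 0
  have e : x = (Abelian.Ext.mk₀ a.hom).comp (((Abelian.Ext.mk₀ a.inv).comp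
      (x.comp (Abelian.Ext.mk₀ b.hom) (add_zero q)) (zero_add q)).comp (Abelian.Ext.mk₀ b.inv) (add_zero q)) (zero_add q) := by
    simp
  rw [e, h0, Abelian.Ext.zero_comp, Abelian.Ext.comp_zero]

/-- The dualizing sheaf has free rank one stalks. -/
theorem nonempty_stalk_O (c : ℤ) (x : PS) :
    Nonempty ((O(c)).presheaf.stalk x ≃ₗ[(PS).presheaf.stalk x] (PS).presheaf.stalk x) := by
  obtain ⟨e, he⟩ := ParaFLib.exists_stalk_gen (CMRegLib.isInvertible_O (k := k) (n := n) c) x
  exact ⟨(LinearEquiv.ofBijective (LinearMap.toSpanSingleton _ _ e) he).symm⟩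

variable [HasInjectiveResolutions (ModSite.Mod (CohB1.ProjSpace n k).sheaf)]

/-- The Ext sheaves into the dualizing sheaf. -/
abbrev extω (F : (PS).Modules) (q : ℕ) : (PS).Modules :=
  (ModSite.extSh (O := (PS).sheaf) F q).obj ω

theorem isCoh_extω {F : (PS).Modules} (hF : Coh.IsCoh F) (q : ℕ) : Coh.IsCoh (extω F q) :=
  haveI := CMRegLib.isNoetherian_projSpace (k := k) (n := n)
  ExtShLib.isCoh_extS F hF _ (CurveLib.isCoh_of_isInvertible (CMRegLib.isInvertible_O _)) q

/-- The stalks of the Ext sheaves into the dualizing sheaf. -/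
theorem subsingleton_stalk_extω_iff {F : (PS).Modules} (hF : Coh.IsCoh F) (q : ℕ) (x : PS) :
    Subsingleton ((extω F q).presheaf.stalk x) ↔
      Subsingleton (Abelian.Ext.{u} (ModuleCat.of ((PS).presheaf.stalk x) (F.presheaf.stalk x))
        (ModuleCat.of ((PS).presheaf.stalk x) ((PS).presheaf.stalk x)) q) := by
  haveI := CMRegLib.isNoetherian_projSpace (k := k) (n := n)
  haveI : HasInjectiveResolutions (PS).Modules := ‹HasInjectiveResolutions (ModSite.Mod (CohB1.ProjSpace n k).sheaf)›
  let S := (PS).presheaf.stalk x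
  obtain ⟨l⟩ := StalkHomLib.nonempty_stkR_extSh_iso F x (S := S) (RingEquiv.refl _) hF ω q
  obtain ⟨g⟩ := nonempty_stalk_O (k := k) (n := n) (-((n : ℤ) + 1)) x
  let aF : ModuleCat.of S (F.presheaf.stalk x) ≅ (stkR x (RingEquiv.refl S)).obj F :=
    LinearEquiv.toModuleIso (X₂ := (stkR x (RingEquiv.refl S)).obj F)
      { AddEquiv.refl (F.presheaf.stalk x) with map_smul' := fun _ _ => rfl }
  let aG : ModuleCat.of S S ≅ (stkR x (RingEquiv.refl S)).obj ω :=
    LinearEquiv.toModuleIso (X₂ := (stkR x (RingEquiv.refl S)).obj ω)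
      { g.symm.toAddEquiv with map_smul' := fun a b => g.symm.map_smul a b }
  exact ((l.toLinearEquiv.toEquiv).subsingleton_congr).trans
    ⟨subsingleton_ext_iso aF aG q, subsingleton_ext_iso aF.symm aG.symm q⟩

theorem isZero_extω_iff {F : (PS).Modules} (hF : Coh.IsCoh F) (q : ℕ) :
    IsZero (extω F q) ↔ ∀ x : PS, IsClosed ({x} : Set (PS)) →
      Subsingleton (Abelian.Ext.{u} (ModuleCat.of ((PS).presheaf.stalk x) (F.presheaf.stalk x))
        (ModuleCat.of ((PS).presheaf.stalk x) ((PS).presheaf.stalk x)) q) := by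
  haveI := CMRegLib.isNoetherian_projSpace (k := k) (n := n)
  refine ⟨fun h x _ => (subsingleton_stalk_extω_iff hF q x).1 (ModuleCat.subsingleton_of_isZero ((stkF x).map_isZero h)),
    fun h => isZero_of_closed_stalks (isCoh_extω hF q) fun x hx => (subsingleton_stalk_extω_iff hF q x).2 (h x hx)⟩

theorem nonempty_extω_twist (F : (PS).Modules) (m : ℤ) (q : ℕ) :
    Nonempty (extω (CohB1.tensorMod F (O(-m))) q ≅ CohB1.tensorMod (extω F q) (O(m))) := by
  obtain ⟨e⟩ := LocFreeHomLib.nonempty_extSh_tensor (O(-m)) F (flf_O (-m)) ω q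
  obtain ⟨η⟩ := HorrocksPnLib.nonempty_cancel_twist (k := k) (n := n) (neg_add_cancel m)
  obtain ⟨φ⟩ := nonempty_hF_invertible η (Coh.structureModule PS)
  exact ⟨e ≪≫ AmpleLib.tIso (Iso.refl _) (φ ≪≫ AmpleLib.unitL _)⟩

/-- Vanishing of high negative twists means vanishing of the Ext sheaf. -/
theorem vanish_iff_extω {F : (PS).Modules} (hF : Coh.IsCoh F) {i j : ℕ} (hij : i + j = n) :
    (∃ m₀ : ℤ, ∀ m : ℤ, m₀ ≤ m → Subsingleton (Coh.HH PS (CohB1.tensorMod F (O(-m))) i)) ↔
      IsZero (extω F j) := by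
  haveI := CMRegLib.isNoetherian_projSpace (k := k) (n := n)
  haveI : EnoughInjectives (PS).Modules := SiteBase.enoughInjectives_sheafOfModules _
  haveI : HasExt.{u} (PS).Modules := CategoryTheory.hasExt_of_enoughInjectives _
  choose μ hμ using fun q => HorrocksPnLib.exists_regular (isCoh_extω hF q)
  let M : ℤ := (Finset.range (j + 1)).sup' ⟨0, by simp⟩ μ
  have key : ∀ m : ℤ, M ≤ m → (Subsingleton (Coh.HH PS (CohB1.tensorMod F (O(-m))) i) ↔ IsZero (extω F j)) := by
    intro m hm
    have hμm : ∀ q, q ≤ j → μ q ≤ m := fun q hq => le_trans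
      (Finset.le_sup' μ (Finset.mem_range.2 (Nat.lt_succ_of_le hq))) hm
    have hFm : Coh.IsCoh (CohB1.tensorMod F (O(-m))) := CMRegLib.isCoh_twistBy hF _
    haveI := hFm.1
    have hac : ∀ q, q ≤ j → Acyc (extω (CohB1.tensorMod F (O(-m))) q) := fun q hq p => by
      obtain ⟨e⟩ := nonempty_extω_twist (k := k) (n := n) F m q
      haveI := CMRegLib.vanish_ge (isCoh_extω hF q) (hμ q) (i := p + 1) (by omega) (d := m)
        (by have := hμm q hq; omega)
      exact ProjCoh.subsingleton_of_iso e.symm (p + 1)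
    obtain ⟨e⟩ := nonempty_ext_sections k (CohB1.tensorMod F (O(-m))) ω j hac
    obtain ⟨d⟩ := (ext_duality hFm).1 j (by omega)
    obtain ⟨t⟩ := nonempty_extω_twist (k := k) (n := n) F m j
    haveI := EulerIneqLib.finite_HH (k := k) hFm (n - j)
    rw [show i = n - j by omega]
    constructor
    · intro h
      have h0 : Subsingleton (Coh.HH PS (extω (CohB1.tensorMod F (O(-m))) j) 0) := by
        haveI := d.toEquiv.subsingleton
        exact e.symm.toEquiv.subsingleton
      refine HorrocksPnLib.isZero_of_twist (HorrocksPnLib.isZero_of_gg_of_noSections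
        (CMRegLib.globallyGenerated (isCoh_extω hF j)
          (CMRegLib.regular_mono (isCoh_extω hF j) (hμm j le_rfl) (hμ j))) ?_)
      haveI := h0
      exact ProjCoh.subsingleton_of_iso t 0
    · intro h
      haveI : Subsingleton (Coh.HH PS (extω (CohB1.tensorMod F (O(-m))) j) 0) :=
        CMRegLib.subsingleton_zero (((CurveLib.tensR (O(m))).map_isZero h).of_iso t) 0
      haveI := e.toEquiv.subsingleton
      have h1 : Module.finrank k (Module.Dual k (Coh.HH PS (CohB1.tensorMod F (O(-m))) (n - j))) = 0 := by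
        haveI := d.symm.toEquiv.subsingleton
        exact Module.finrank_zero_of_subsingleton
      rw [Subspace.dual_finrank_eq] at h1
      exact Module.finrank_zero_iff.1 h1
  constructor
  · rintro ⟨m₀, h⟩
    exact (key (max m₀ M) (le_max_right _ _)).1 (h _ (le_max_left _ _))
  · exact fun h => ⟨M, fun m hm => (key m hm).2 h⟩

omit [HasInjectiveResolutions (ModSite.Mod (CohB1.ProjSpace n k).sheaf)] in
theorem hasInjRes : HasInjectiveResolutions (ModSite.Mod (CohB1.ProjSpace n k).sheaf) := by
  haveI : EnoughInjectives (PS).Modules := SiteBase.enoughInjectives_sheafOfModules _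
  exact inferInstanceAs (HasInjectiveResolutions (PS).Modules)

omit [HasInjectiveResolutions (ModSite.Mod (CohB1.ProjSpace n k).sheaf)] in
/-- Vanishing of high negative twists is vanishing of local cohomology at closed points. -/
theorem vanish_iff_localCoh {F : (PS).Modules} (hF : Coh.IsCoh F) (i : ℕ) :
    (∃ m₀ : ℤ, ∀ m : ℤ, m₀ ≤ m → Subsingleton (Coh.HH PS (CohB1.tensorMod F (O(-m))) i)) ↔
      ∀ x : PS, IsClosed ({x} : Set (PS)) →
        Subsingleton (LocCoh.H (IsLocalRing.maximalIdeal ((PS).presheaf.stalk x)) i (F.presheaf.stalk x)) := by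
  haveI := CMRegLib.isNoetherian_projSpace (k := k) (n := n)
  haveI := hasInjRes (k := k) (n := n)
  haveI := hF.1
  by_cases hi : i ≤ n
  · rw [vanish_iff_extω hF (show i + (n - i) = n by omega), isZero_extω_iff hF]
    refine forall₂_congr fun x hx => ?_
    haveI := regular_stalk (k := k) (n := n) x
    haveI := finite_stalk_of_isFT hF.2 x
    exact (subsingleton_H_iff_ext _ n (F.presheaf.stalk x) (dim_closed_point hx) hi).symm
  · refine iff_of_true ⟨0, fun m _ => CMRegLib.vanish_high hF _ (by omega)⟩ fun x hx => ?_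
    haveI := regular_stalk (k := k) (n := n) x
    haveI := finite_stalk_of_isFT hF.2 x
    exact subsingleton_H_of_dim_lt _ n (F.presheaf.stalk x) (dim_closed_point hx) (by omega)

omit [HasInjectiveResolutions (ModSite.Mod (CohB1.ProjSpace n k).sheaf)] in
/-- Vanishing of high negative twists below a degree is a depth condition at closed points. -/
theorem vanish_lt_iff_depth {F : (PS).Modules} (hF : Coh.IsCoh F) (r : ℕ) :
    (∃ m₀ : ℤ, ∀ m : ℤ, m₀ ≤ m → ∀ i, i < r → Subsingleton (Coh.HH PS (CohB1.tensorMod F (O(-m))) i)) ↔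
      ∀ x : PS, IsClosed ({x} : Set (PS)) →
        (r : ℕ∞) ≤ LocCoh.depth ((PS).presheaf.stalk x) (F.presheaf.stalk x) := by
  haveI := CMRegLib.isNoetherian_projSpace (k := k) (n := n)
  constructor
  · rintro ⟨m₀, h⟩ x hx
    haveI := regular_stalk (k := k) (n := n) x
    haveI := hF.1
    haveI := finite_stalk_of_isFT hF.2 x
    exact (GorLib.natCast_le_depth_iff_subsingleton_H _ r).2 fun j hj =>
      (vanish_iff_localCoh hF j).1 ⟨m₀, fun m hm => h m hm j hj⟩ x hx
  · intro h
    have hj : ∀ j, j < r → ∃ m₀ : ℤ, ∀ m : ℤ, m₀ ≤ m → Subsingleton (Coh.HH PS (CohB1.tensorMod F (O(-m))) j) := by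
      intro j hj
      refine (vanish_iff_localCoh hF j).2 fun x hx => ?_
      haveI := regular_stalk (k := k) (n := n) x
      haveI := hF.1
      haveI := finite_stalk_of_isFT hF.2 x
      exact (GorLib.natCast_le_depth_iff_subsingleton_H _ r).1 (h x hx) j hj
    choose! m₀ hm₀ using hj
    rcases Nat.eq_zero_or_pos r with rfl | hr
    · exact ⟨0, fun m _ i hi => absurd hi (by omega)⟩
    · exact ⟨(Finset.range r).sup' ⟨0, by simpa using hr⟩ m₀, fun m hm i hi =>
        hm₀ i hi m ((Finset.le_sup' m₀ (Finset.mem_range.2 hi)).trans hm)⟩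

end Groth.Agent.ProjSerreLib
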