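import Groth.Agent.DCohLib.ProjClosed
import Groth.Agent.DCohMore.FinPushRes
import Groth.Agent.Dual3Lib.PushClosedAdj
import Groth.Agent.StalkHomLib.HomSect
import Groth.Agent.CurveLib.TensorExact
import Mathlib.CategoryTheory.Abelian.Injective.Ext

/-!
# Ext groups of modules on a closed subscheme into an ambient module

If the Ext sheaves out of the structure sheaf of a closed subscheme vanish below degree `c`, then the Ext
groups in degree `c` are Homs into the Ext sheaf in degree `c`.
-/

set_option autoImplicit false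
set_option backward.isDefEq.respectTransparency false
set_option linter.style.haveILetI false
set_option maxHeartbeats 400000

universe u v w

open CategoryTheory CategoryTheory.Limits AlgebraicGeometry TopologicalSpace Opposite
open Groth.Agent.PullbackMod Groth.Agent.DCohLib

noncomputable section

namespace Groth.Agent.ProjSerreLib

section Split

variable {C : Type w} [Category.{v} C] [Abelian C]

/-- A morphism with injective source and injective kernel is regular. -/
theorem exists_regular_inverse {A B : C} (d : A ⟶ B) [Injective A] [Injective (kernel d)] :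
    ∃ s : B ⟶ A, d ≫ s ≫ d = d := by
  let r : A ⟶ kernel d := Injective.factorThru (𝟙 _) (kernel.ι d)
  have hr : kernel.ι d ≫ r = 𝟙 _ := Injective.comp_factorThru _ _
  let p : A ⟶ A := 𝟙 A - r ≫ kernel.ι d
  have hp : kernel.ι d ≫ p = 0 := by
    simp only [p, Preadditive.comp_sub, Category.comp_id, ← Category.assoc, hr, Category.id_comp, sub_self]
  let p' : Abelian.coimage d ⟶ A := cokernel.desc _ p hp
  let w : B ⟶ A := Injective.factorThru p' (Abelian.factorThruCoimage d)
  refine ⟨w, ?_⟩
  have hw : d ≫ w = p := by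
    have h1 : Abelian.factorThruCoimage d ≫ w = p' := Injective.comp_factorThru _ _
    conv_lhs => rw [← Abelian.coimage.fac d]
    rw [Category.assoc, h1]
    exact cokernel.π_desc _ _ _
  rw [← Category.assoc, hw]
  simp only [p, Preadditive.sub_comp, Category.id_comp, Category.assoc, kernel.condition, comp_zero, sub_zero]

variable (K : CochainComplex C ℕ) [∀ q, Injective (K.X q)]

theorem exists_split_of_exactAt : ∀ (c : ℕ), (∀ q, q < c → K.ExactAt q) →
    ∃ s : K.X c ⟶ K.X ((ComplexShape.up ℕ).prev c),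
      K.d ((ComplexShape.up ℕ).prev c) c ≫ s ≫ K.d ((ComplexShape.up ℕ).prev c) c =
        K.d ((ComplexShape.up ℕ).prev c) c := by
  intro c hc
  have main : ∀ q, q < c → Injective (kernel (K.d q (q + 1))) := by
    intro q
    induction q with
    | zero =>
      intro hq
      have h := (K.exactAt_iff' 0 0 1 (CochainComplex.prev_nat_zero) (CochainComplex.next ℕ 0)).1 (hc 0 hq)
      haveI : Mono (K.d 0 1) := h.mono_g (K.shape 0 0 (by simp))
      haveI := kernel.ι_of_mono (K.d 0 1)
      refine ⟨fun {Y Z} g f hf => ⟨0, ?_⟩⟩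
      exact ((isZero_kernel_of_mono (K.d 0 1)).eq_of_tgt _ _)
    | succ q ih =>
      intro hq
      haveI := ih (by omega)
      obtain ⟨s, hs⟩ := exists_regular_inverse (K.d q (q + 1))
      have h := (K.exactAt_iff' q (q + 1) (q + 1 + 1) (CochainComplex.prev_nat_succ q)
        (CochainComplex.next ℕ (q + 1))).1 (hc (q + 1) hq)
      haveI : Epi (kernel.lift (K.d (q + 1) (q + 1 + 1)) (K.d q (q + 1)) (K.d_comp_d _ _ _)) :=
        (ShortComplex.exact_iff_epi_kernel_lift _).1 h
      let r : K.X (q + 1) ⟶ kernel (K.d (q + 1) (q + 1 + 1)) :=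
        kernel.lift _ (s ≫ K.d q (q + 1)) (by rw [Category.assoc, K.d_comp_d, comp_zero])
      have hr : kernel.ι (K.d (q + 1) (q + 1 + 1)) ≫ r = 𝟙 _ := by
        rw [← cancel_mono (kernel.ι (K.d (q + 1) (q + 1 + 1))), Category.assoc, kernel.lift_ι, Category.id_comp,
          ← cancel_epi (kernel.lift (K.d (q + 1) (q + 1 + 1)) (K.d q (q + 1)) (K.d_comp_d _ _ _)),
          kernel.lift_ι, kernel.lift_ι_assoc]
        exact hs
      exact ⟨fun {Y Z} g f hf => ⟨Injective.factorThru (g ≫ kernel.ι _) f ≫ r, by
        rw [← Category.assoc, Injective.comp_factorThru, Category.assoc, hr, Category.comp_id]⟩⟩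
  cases c with
  | zero => exact ⟨0, by simp⟩
  | succ p =>
    haveI := main p (by omega)
    obtain ⟨s, hs⟩ := exists_regular_inverse (K.d p (p + 1))
    rw [CochainComplex.prev_nat_succ p]
    exact ⟨s, hs⟩

/-- The cohomology in the first possibly nonexact degree splits off the cocycles. -/
theorem exists_section_of_exactAt (c : ℕ) (hc : ∀ q, q < c → K.ExactAt q) :
    ∃ (σ : K.homology c ⟶ K.cycles c) (u : K.cycles c ⟶ K.X ((ComplexShape.up ℕ).prev c)),
      σ ≫ K.homologyπ c = 𝟙 _ ∧ K.homologyπ c ≫ σ + u ≫ K.toCycles ((ComplexShape.up ℕ).prev c) c = 𝟙 _ := by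
  obtain ⟨s, hs⟩ := exists_split_of_exactAt K c hc
  let p := (ComplexShape.up ℕ).prev c
  let u : K.cycles c ⟶ K.X p := K.iCycles c ≫ s
  have he : K.toCycles p c ≫ u ≫ K.toCycles p c = K.toCycles p c := by
    simp only [← cancel_mono (K.iCycles c), u, Category.assoc, K.toCycles_i]
    rw [← Category.assoc, K.toCycles_i]
    exact hs
  let cof := CokernelCofork.ofπ (f := K.toCycles p c) (𝟙 _ - u ≫ K.toCycles p c)
    (by rw [Preadditive.comp_sub, Category.comp_id, he, sub_self])
  let σ : K.homology c ⟶ K.cycles c := (K.homologyIsCokernel p c rfl).desc cof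
  have hσ : K.homologyπ c ≫ σ = 𝟙 _ - u ≫ K.toCycles p c :=
    (K.homologyIsCokernel p c rfl).fac cof WalkingParallelPair.one
  refine ⟨σ, u, ?_, by rw [hσ]; exact sub_add_cancel _ _⟩
  rw [← cancel_epi (K.homologyπ c), ← Category.assoc, hσ]
  simp

end Split

section Shriek

variable {X P : Scheme.{u}} (ι : X ⟶ P) [IsClosedImmersion ι]

local instance isLeftAdjoint_push : (Scheme.Modules.pushforward ι).IsLeftAdjoint :=
  Dual3Lib.isLeftAdjoint_pushforward ι

/-- The right adjoint of the direct image. -/
abbrev shriek : P.Modules ⥤ X.Modules := (Scheme.Modules.pushforward ι).rightAdjoint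

/-- The adjunction. -/
abbrev shAdj : Scheme.Modules.pushforward ι ⊣ shriek ι := Adjunction.ofIsLeftAdjoint _

theorem preservesHomology_push : (Scheme.Modules.pushforward ι).PreservesHomology := by
  haveI : PreservesFiniteColimits (Scheme.Modules.pushforward ι) :=
    haveI : PreservesColimitsOfSize.{0, 0} (Scheme.Modules.pushforward ι) := (shAdj ι).leftAdjoint_preservesColimits
    PreservesColimitsOfSize.preservesFiniteColimits _
  haveI : PreservesFiniteLimits (Scheme.Modules.pushforward ι) :=
    haveI : PreservesLimitsOfSize.{0, 0} (Scheme.Modules.pushforward ι) :=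
      (Scheme.Modules.pullbackPushforwardAdjunction ι).rightAdjoint_preservesLimits
    PreservesLimitsOfSize.preservesFiniteLimits _
  infer_instance

theorem injective_shriek (I : P.Modules) [Injective I] : Injective ((shriek ι).obj I) := by
  haveI : (Scheme.Modules.pushforward ι).PreservesMonomorphisms :=
    Functor.preservesMonomorphisms_of_adjunction (Scheme.Modules.pullbackPushforwardAdjunction ι)
  exact Injective.injective_of_adjoint (shAdj ι) I

/-- The internal Hom out of the structure sheaf of the subscheme. -/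
theorem nonempty_hF_shriek [ModSite.HasSheafHom (O := P.sheaf) ((Scheme.Modules.pushforward ι).obj (Coh.structureModule X))] :
    Nonempty (StalkHomLib.hF ((Scheme.Modules.pushforward ι).obj (Coh.structureModule X)) ≅
      shriek ι ⋙ Scheme.Modules.pushforward ι) := by
  let e : CurveLib.tensR ((Scheme.Modules.pushforward ι).obj (Coh.structureModule X)) ≅
      Scheme.Modules.pullback ι ⋙ Scheme.Modules.pushforward ι :=
    ModTensor.tensorSymm P.sheaf _ ≪≫ (projNatIso ι).symm.app (Coh.structureModule X) ≪≫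
      Functor.isoWhiskerRight
        (Functor.isoWhiskerLeft (Scheme.Modules.pullback ι) (DCohMore.isoTensorUnit X) ≪≫ Functor.rightUnitor _)
        (Scheme.Modules.pushforward ι)
  exact ⟨(ModSite.sheafHomAdj (O := P.sheaf) _).rightAdjointUniq
    (((Scheme.Modules.pullbackPushforwardAdjunction ι).comp (shAdj ι)).ofNatIsoLeft e.symm)⟩

/-- Homs into a Hom complex. -/
theorem shAdj_symm_comp {F : X.Modules} {A B : P.Modules} (g : F ⟶ (shriek ι).obj A) (d : A ⟶ B) :
    ((shAdj ι).homEquiv F B).symm (g ≫ (shriek ι).map d) = ((shAdj ι).homEquiv F A).symm g ≫ d :=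
  (shAdj ι).homEquiv_naturality_right_symm g d

variable {W : P.Modules} (R : InjectiveResolution W)

/-- The complex computing the Ext sheaves, on the subscheme. -/
abbrev shCx : CochainComplex X.Modules ℕ :=
  haveI : (shriek ι).Additive := (shAdj ι).right_adjoint_additive
  ((shriek ι).mapHomologicalComplex _).obj R.cocomplex

theorem injective_shCx (q : ℕ) : Injective ((shCx ι R).X q) := by
  haveI : Injective (R.cocomplex.X q) := R.injective q
  exact injective_shriek ι _

/-- The Ext sheaves as direct images. -/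
theorem nonempty_extSh_shCx
    [ModSite.HasSheafHom (O := P.sheaf) ((Scheme.Modules.pushforward ι).obj (Coh.structureModule X))]
    [HasInjectiveResolutions (ModSite.Mod P.sheaf)] (q : ℕ) :
    Nonempty (((ModSite.extSh (O := P.sheaf) ((Scheme.Modules.pushforward ι).obj (Coh.structureModule X)) q).obj W :
      P.Modules) ≅ (Scheme.Modules.pushforward ι).obj ((shCx ι R).homology q)) := by
  haveI : HasInjectiveResolutions P.Modules := ‹HasInjectiveResolutions (ModSite.Mod P.sheaf)›
  haveI : (shriek ι).Additive := (shAdj ι).right_adjoint_additive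
  haveI := preservesHomology_push ι
  haveI : (StalkHomLib.hF ((Scheme.Modules.pushforward ι).obj (Coh.structureModule X))).Additive :=
    (ModSite.sheafHomAdj (O := P.sheaf) _).right_adjoint_additive
  obtain ⟨e⟩ := nonempty_hF_shriek ι
  exact ⟨R.isoRightDerivedObj (StalkHomLib.hF ((Scheme.Modules.pushforward ι).obj (Coh.structureModule X))) q ≪≫
    (HomologicalComplex.homologyFunctor _ _ q).mapIso
      ((NatIso.mapHomologicalComplex e (ComplexShape.up ℕ)).app R.cocomplex) ≪≫
    ((shCx ι R).sc q).mapHomologyIso (Scheme.Modules.pushforward ι)⟩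

theorem isZero_of_push {M : X.Modules} (h : IsZero ((Scheme.Modules.pushforward ι).obj M)) : IsZero M := by
  haveI := isIso_counit_closedImmersion ι M
  exact ((Scheme.Modules.pullback ι).map_isZero h).of_iso
    (asIso ((Scheme.Modules.pullbackPushforwardAdjunction ι).counit.app M)).symm

def isoOfPush {M M' : X.Modules} (e : (Scheme.Modules.pushforward ι).obj M ≅ (Scheme.Modules.pushforward ι).obj M') :
    M ≅ M' :=
  haveI := isIso_counit_closedImmersion ι M
  haveI := isIso_counit_closedImmersion ι M'
  (asIso ((Scheme.Modules.pullbackPushforwardAdjunction ι).counit.app M)).symm ≪≫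
    (Scheme.Modules.pullback ι).mapIso e ≪≫ asIso ((Scheme.Modules.pullbackPushforwardAdjunction ι).counit.app M')

theorem extMk_eq_zero_degree_zero [HasExt.{u} P.Modules] {G : P.Modules} (f : G ⟶ R.cocomplex.X 0)
    (hf : f ≫ R.cocomplex.d 0 1 = 0) (h : R.extMk f 1 rfl hf = 0) : f = 0 := by
  simp only [← R.extEquivCohomologyClass.apply_eq_iff_eq, InjectiveResolution.extEquivCohomologyClass_extMk,
    InjectiveResolution.extEquivCohomologyClass_zero, CochainComplex.HomComplex.CohomologyClass.mk_eq_zero_iff] at h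
  rw [CochainComplex.HomComplex.Cocycle.fromSingleMk_mem_coboundaries_iff _ _ _ _ _ (-1) (by omega)] at h
  obtain ⟨g, hg⟩ := h
  have hg0 : g = 0 := (R.cochainComplex.isZero_of_isStrictlyGE 0 (-1) (by omega)).eq_of_tgt _ _
  rw [hg0, zero_comp] at hg
  exact (cancel_mono (R.cochainComplexXIso 0 0 rfl).inv).1 (hg.symm.trans zero_comp.symm)

omit [IsClosedImmersion ι] in
theorem extMk_eq_of_boundary [HasExt.{u} P.Modules] {G : P.Modules} {c : ℕ} (f' f : G ⟶ R.cocomplex.X c)
    (h' : f' ≫ R.cocomplex.d c (c + 1) = 0) (h : f ≫ R.cocomplex.d c (c + 1) = 0)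
    (g : G ⟶ R.cocomplex.X ((ComplexShape.up ℕ).prev c))
    (e : f = f' + g ≫ R.cocomplex.d ((ComplexShape.up ℕ).prev c) c) :
    R.extMk f' (c + 1) rfl h' = R.extMk f (c + 1) rfl h := by
  subst e
  cases c with
  | zero =>
    congr 1
    have : R.cocomplex.d ((ComplexShape.up ℕ).prev 0) 0 = 0 := R.cocomplex.shape _ _ (by simp)
    rw [this, comp_zero, add_zero]
  | succ p =>
    have hd : (g ≫ R.cocomplex.d ((ComplexShape.up ℕ).prev (p + 1)) (p + 1)) ≫
        R.cocomplex.d (p + 1) (p + 1 + 1) = 0 := by rw [Category.assoc, R.cocomplex.d_comp_d, comp_zero]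
    rw [← R.add_extMk _ _ (p + 1 + 1) rfl h' hd, left_eq_add]
    refine (R.extMk_eq_zero_iff _ _ rfl hd p rfl).2 ?_
    clear h hd
    revert g
    rw [CochainComplex.prev_nat_succ p]
    intro g
    exact ⟨_, rfl⟩

theorem symm_add {F : X.Modules} {A : P.Modules} (a b : F ⟶ (shriek ι).obj A) :
    ((shAdj ι).homEquiv F A).symm (a + b) =
      ((shAdj ι).homEquiv F A).symm a + ((shAdj ι).homEquiv F A).symm b := by
  rw [Adjunction.homEquiv_counit, Adjunction.homEquiv_counit, Adjunction.homEquiv_counit, Functor.map_add,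
    Preadditive.add_comp]

open Abelian (Ext) in
/-- Ext out of direct images in the first possibly nonzero degree is Hom. -/
theorem exists_universal_ext [HasExt.{u} P.Modules] (c : ℕ) (hc : ∀ q, q < c → IsZero ((shCx ι R).homology q)) :
    ∃ η : Ext.{u} ((Scheme.Modules.pushforward ι).obj ((shCx ι R).homology c)) W c, ∀ F : X.Modules,
      Function.Bijective fun φ : F ⟶ (shCx ι R).homology c =>
        (Ext.mk₀ ((Scheme.Modules.pushforward ι).map φ)).comp η (zero_add c) := by
  haveI : (shriek ι).Additive := (shAdj ι).right_adjoint_additive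
  let K := shCx ι R
  haveI : ∀ q, Injective (K.X q) := injective_shCx ι R
  obtain ⟨σ, u, hσ, hu⟩ := exists_section_of_exactAt K c fun q hq =>
    (K.exactAt_iff_isZero_homology q).2 (hc q hq)
  let f₀ := ((shAdj ι).homEquiv (K.homology c) (R.cocomplex.X c)).symm (σ ≫ K.iCycles c)
  have hf₀ : f₀ ≫ R.cocomplex.d c (c + 1) = 0 := by
    rw [← shAdj_symm_comp]
    show ((shAdj ι).homEquiv _ _).symm ((σ ≫ K.iCycles c) ≫ K.d c (c + 1)) = 0
    rw [Category.assoc, K.iCycles_d, comp_zero, Adjunction.homEquiv_counit, Functor.map_zero, zero_comp]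
  let η := R.extMk f₀ (c + 1) rfl hf₀
  refine ⟨η, fun F => ?_⟩
  have hcomp : ∀ φ : F ⟶ K.homology c, ∃ h,
      (Ext.mk₀ ((Scheme.Modules.pushforward ι).map φ)).comp η (zero_add c) =
        R.extMk (((shAdj ι).homEquiv F (R.cocomplex.X c)).symm (φ ≫ σ ≫ K.iCycles c)) (c + 1) rfl h := fun φ => by
    have e : (Scheme.Modules.pushforward ι).map φ ≫ f₀ =
        ((shAdj ι).homEquiv F (R.cocomplex.X c)).symm (φ ≫ σ ≫ K.iCycles c) :=
      ((shAdj ι).homEquiv_naturality_left_symm φ _).symm
    exact ⟨by rw [← e, Category.assoc, hf₀, comp_zero],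
      (R.mk₀_comp_extMk f₀ (c + 1) rfl hf₀ _).trans (by congr 1)⟩
  refine ⟨fun φ ψ hφψ => ?_, fun x => ?_⟩
  · rw [← sub_eq_zero]
    have h0 : (Ext.mk₀ ((Scheme.Modules.pushforward ι).map (φ - ψ))).comp η (zero_add c) = 0 := by
      rw [Functor.map_sub, sub_eq_add_neg, Ext.mk₀_add, Ext.mk₀_neg, Ext.add_comp, Ext.neg_comp,
        ← sub_eq_add_neg, sub_eq_zero]
      exact hφψ
    obtain ⟨h, e⟩ := hcomp (φ - ψ)
    rw [e] at h0
    let φ' := φ - ψ
    show φ' = 0
    have key : ∃ g : F ⟶ K.X ((ComplexShape.up ℕ).prev c),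
        φ' ≫ σ ≫ K.iCycles c = g ≫ K.d ((ComplexShape.up ℕ).prev c) c := by
      cases c with
      | zero =>
        refine ⟨0, ?_⟩
        have h1 := extMk_eq_zero_degree_zero R _ h h0
        rw [zero_comp]
        exact ((shAdj ι).homEquiv F (R.cocomplex.X 0)).symm.injective
          (h1.trans (by rw [Adjunction.homEquiv_counit, Functor.map_zero, zero_comp]))
      | succ p =>
        obtain ⟨g, hg⟩ := (R.extMk_eq_zero_iff _ _ rfl h p rfl).1 h0
        rw [CochainComplex.prev_nat_succ p]
        refine ⟨(shAdj ι).homEquiv F (R.cocomplex.X p) g,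
          ((shAdj ι).homEquiv F (R.cocomplex.X (p + 1))).symm.injective ?_⟩
        show _ = ((shAdj ι).homEquiv _ _).symm (_ ≫ (shriek ι).map (R.cocomplex.d p (p + 1)))
        rw [shAdj_symm_comp, Equiv.symm_apply_apply]
        exact hg.symm
    obtain ⟨g, hg⟩ := key
    have h2 : φ' ≫ σ = g ≫ K.toCycles _ c := by
      rw [← cancel_mono (K.iCycles c), Category.assoc, hg, Category.assoc, K.toCycles_i]
    calc φ' = φ' ≫ σ ≫ K.homologyπ c := by rw [hσ, Category.comp_id]
      _ = 0 := by rw [← Category.assoc, h2, Category.assoc, K.toCycles_comp_homologyπ, comp_zero]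
  · obtain ⟨f, hf, rfl⟩ := R.extMk_surjective x (c + 1) rfl
    let g : F ⟶ K.X c := (shAdj ι).homEquiv F (R.cocomplex.X c) f
    have hg : g ≫ K.d c (c + 1) = 0 := by
      refine ((shAdj ι).homEquiv F (R.cocomplex.X (c + 1))).symm.injective ?_
      show ((shAdj ι).homEquiv _ _).symm (g ≫ (shriek ι).map (R.cocomplex.d c (c + 1))) = _
      rw [shAdj_symm_comp, Equiv.symm_apply_apply, hf, Adjunction.homEquiv_counit, Functor.map_zero, zero_comp]
    let g' := K.liftCycles g (c + 1) (CochainComplex.next ℕ c) hg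
    refine ⟨g' ≫ K.homologyπ c, ?_⟩
    obtain ⟨h, e⟩ := hcomp (g' ≫ K.homologyπ c)
    refine e.trans ?_
    let v : F ⟶ K.X ((ComplexShape.up ℕ).prev c) := g' ≫ u
    have hdec : (g' ≫ K.homologyπ c) ≫ σ ≫ K.iCycles c + v ≫ K.d ((ComplexShape.up ℕ).prev c) c = g := by
      rw [← K.toCycles_i ((ComplexShape.up ℕ).prev c) c]
      simp only [v, Category.assoc]
      rw [← Preadditive.comp_add]
      conv_rhs => rw [show g = g' ≫ K.iCycles c from (K.liftCycles_i _ _ _ _).symm]
      congr 1
      rw [← Category.assoc, ← Category.assoc, ← Preadditive.add_comp, hu, Category.id_comp]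
    refine extMk_eq_of_boundary R _ f h hf (((shAdj ι).homEquiv F _).symm v) ?_
    rw [← shAdj_symm_comp, ← symm_add ι]
    exact (Equiv.symm_apply_apply _ f).symm.trans (congrArg _ hdec.symm)

end Shriek

end Groth.Agent.ProjSerreLib
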