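import Groth.Agent.CohBase.PushFunctorial
import Groth.Agent.FormalLib.ProperSupport
import Groth.Agent.CurveLib.Euler

/-!
# Cohomology of a closed subscheme as cohomology on the ambient scheme, naturally
-/

set_option autoImplicit false
set_option backward.isDefEq.respectTransparency false
set_option linter.style.haveILetI false

universe u

open CategoryTheory CategoryTheory.Limits AlgebraicGeometry TopologicalSpace Opposite
open Groth.Agent.CohBase

noncomputable section

namespace Groth.Agent.ProjSerreLib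

variable {k : Type u} [Field k] {X Y : Scheme.{u}} [X.Over (Spec (CommRingCat.of k))]
  [Y.Over (Spec (CommRingCat.of k))] (i : X ⟶ Y) [IsClosedImmersion i]

theorem gTop_toGlobal (hi : i ≫ (Y ↘ Spec (CommRingCat.of k)) = X ↘ Spec (CommRingCat.of k)) (a : k) :
    ProperFin.gTop i (Coh.toGlobal (Y ↘ Spec (CommRingCat.of k)) a) = Coh.toGlobal (X ↘ Spec (CommRingCat.of k)) a := by
  rw [← hi]
  unfold ProperFin.gTop Coh.toGlobal
  simp only [Scheme.Hom.comp_appTop, CommRingCat.hom_comp]
  rfl

/-- Cohomology of direct images under a closed immersion, naturally and linearly. -/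
theorem exists_push_natural (hi : i ≫ (Y ↘ Spec (CommRingCat.of k)) = X ↘ Spec (CommRingCat.of k)) (p : ℕ) :
    ∃ e : ∀ (M : X.Modules) (_ : Coh.IsQCoh M),
      Coh.HH X M p ≃ₗ[k] Coh.HH Y ((Scheme.Modules.pushforward i).obj M) p,
      ∀ (M N : X.Modules) (hM : Coh.IsQCoh M) (hN : Coh.IsQCoh N) (f : M ⟶ N) (x : Coh.HH X M p),
        e N hN (CurveLib.hMap (k := k) f p x) =
          CurveLib.hMap (k := k) ((Scheme.Modules.pushforward i).map f) p (e M hM x) := by
  obtain ⟨E, hE⟩ := exists_pushNatEquiv i.base (B := fun V : Y.Opens => IsAffineOpen V)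
    (fun W y hy => by
      obtain ⟨_, ⟨V : Y.Opens, hV, rfl⟩, hyV, hVW⟩ :=
        Y.isBasis_affineOpens.exists_subset_of_mem_open (a := y) hy W.2
      exact ⟨V, hV, hyV, hVW⟩) p
  have hac : ∀ (M : X.Modules), Coh.IsQCoh M → PushAcyclic i.base (fun V : Y.Opens => IsAffineOpen V) (Coh.toAb M) :=
    fun M hM V hV m => by
      haveI := hM
      exact FormalLib.affAcyclic_closed i M V hV m
  let T : ∀ (M : X.Modules), Coh.IsQCoh M → (Coh.HH X M p ≃+ Coh.HH Y ((Scheme.Modules.pushforward i).obj M) p) :=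
    fun M hM => ((HHEquiv M p).trans (E (Coh.toAb M) (hac M hM))).trans
      (HHEquiv ((Scheme.Modules.pushforward i).obj M) p).symm
  have key : ∀ (M N : X.Modules) (hM : Coh.IsQCoh M) (hN : Coh.IsQCoh N) (f : Coh.toAb M ⟶ Coh.toAb N)
      (g : Coh.toAb ((Scheme.Modules.pushforward i).obj M) ⟶ Coh.toAb ((Scheme.Modules.pushforward i).obj N)),
      g = (pushS i.base).map f → ∀ x : Coh.HH X M p, T N hN (Sheaf.H.map f p x) = Sheaf.H.map g p (T M hM x) := by
    intro M N hM hN f g hg x
    subst hg
    apply (HHEquiv ((Scheme.Modules.pushforward i).obj N) p).injective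
    refine ((HHEquiv ((Scheme.Modules.pushforward i).obj N) p).apply_symm_apply _).trans ?_
    show E (Coh.toAb N) _ (HEquiv (Coh.toAb N) p (Sheaf.H.map f p x)) = _
    refine (congrArg _ (HEquiv_map f p x)).trans ?_
    refine (hE _ _ (hac M hM) (hac N hN) f _).trans ?_
    rw [show (HHEquiv ((Scheme.Modules.pushforward i).obj N) p) =
      HEquiv (Coh.toAb ((Scheme.Modules.pushforward i).obj N)) p from rfl, HEquiv_map]
    refine congrArg _ ?_
    exact ((HHEquiv ((Scheme.Modules.pushforward i).obj M) p).apply_symm_apply _).symm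
  refine ⟨fun M hM => AddEquiv.toLinearEquiv (T M hM) fun a x => ?_, fun M N hM hN f x => ?_⟩
  · show T M hM (Sheaf.H.map (Coh.smulAb M (Coh.toGlobal (X ↘ Spec (CommRingCat.of k)) a)) p x) =
      Sheaf.H.map (Coh.smulAb ((Scheme.Modules.pushforward i).obj M) (Coh.toGlobal (Y ↘ Spec (CommRingCat.of k)) a)) p
        (T M hM x)
    refine key M M hM hM _ _ ?_ x
    rw [ProperFin.smulAb_push, gTop_toGlobal i hi]
  · exact key M N hM hN _ _ rfl x

end Groth.Agent.ProjSerreLib
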