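import Groth.Agent.ProjSerreLib.ClosedSub
import Groth.Agent.PullbackMod.Props

/-!
# Ext groups out of negative twists on a closed subscheme
-/

set_option autoImplicit false
set_option backward.isDefEq.respectTransparency false
set_option linter.style.haveILetI false
set_option maxHeartbeats 400000

universe u

open CategoryTheory CategoryTheory.Limits AlgebraicGeometry TopologicalSpace Opposite
open Groth.Agent.PullbackMod Groth.Agent.DCohLib

noncomputable section

namespace Groth.Agent.ProjSerreLib

open Abelian (Ext)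

theorem subsingleton_ext_flf_gen {X : Scheme.{u}} [HasExt.{u} X.Modules] {P : X.Modules}
    [ModSite.HasSheafHom (O := X.sheaf) P] (hP : FlatMod.IsFinLocFree P) {G : X.Modules} {i : ℕ}
    (h : Subsingleton (Coh.HH X ((StalkHomLib.hF P).obj G) i)) : Subsingleton (Ext.{u} P G i) := by
  haveI := DCohLib.subsingleton_ext_unit _ i h
  obtain ⟨e⟩ := LocFreeHomLib.nonempty_ext_hF P hP (Coh.structureModule X) G i
  exact subsingleton_ext_iso (AmpleLib.unitL P).symm (Iso.refl G) i e.symm.toEquiv.subsingleton

variable {k : Type u} [Field k] {n : ℕ} {X : Scheme.{u}} (ι : X ⟶ CohB1.ProjSpace n k) [IsClosedImmersion ι]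

theorem isCoh_of_push {M : X.Modules} (h : Coh.IsCoh ((Scheme.Modules.pushforward ι).obj M)) : Coh.IsCoh M := by
  haveI := CMRegLib.isNoetherian_projSpace (k := k) (n := n)
  haveI := isNoetherian_sub ι
  haveI := DCohLib.isIso_counit_closedImmersion ι M
  exact ProjCoh.isCoh_of_iso (asIso ((Scheme.Modules.pullbackPushforwardAdjunction ι).counit.app M))
    (PullbackMod.isCoh_pullback _ _ h)

/-- Higher Ext out of a very negative twist vanishes. -/
theorem eventually_subsingleton_ext [HasExt.{u} X.Modules] {W : X.Modules} (hW : Coh.IsCoh W) {i : ℕ} (hi : 0 < i) :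
    ∃ m₀ : ℤ, ∀ m : ℤ, m₀ ≤ m →
      Subsingleton (Ext.{u} ((Scheme.Modules.pullback ι).obj (Twist.twistProjSpace n k (-m))) W i) := by
  obtain ⟨d₀, hd⟩ := CMRegLib.xEventually_vanish k ι hW hi
  refine ⟨d₀, fun m hm => ?_⟩
  haveI : ModSite.HasSheafHom (O := X.sheaf) ((Scheme.Modules.pullback ι).obj (Twist.twistProjSpace n k (-m))) :=
    ModTensor.hasSheafHom (O := X.sheaf) _
  obtain ⟨η⟩ := HorrocksPnLib.nonempty_cancel_twist (k := k) (n := n) (neg_add_cancel m)
  let η' : CohB1.tensorMod ((Scheme.Modules.pullback ι).obj (Twist.twistProjSpace n k (-m)))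
      ((Scheme.Modules.pullback ι).obj (Twist.twistProjSpace n k m)) ≅ Coh.structureModule X :=
    (AmpleLib.pullTensor ι _ _).symm ≪≫ (Scheme.Modules.pullback ι).mapIso η ≪≫ ProjCoh.pullUnit ι
  obtain ⟨φ⟩ := nonempty_hF_invertible η' W
  haveI := hd m hm
  exact subsingleton_ext_flf_gen (CurveLib.isFinLocFree_of_isInvertible
    (AmpleLib.isInvertible_pullback ι (CMRegLib.isInvertible_O _))) (ProjCoh.subsingleton_of_iso (M := Pic13.twistOn k ι W m) φ.symm i)

end Groth.Agent.ProjSerreLib
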