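import Groth.Agent.ProjSerreLib.Pairing
import Groth.Agent.ProjSerreLib.PushDual
import Groth.Agent.ProjSerreLib.ExtShriek
import Groth.Agent.ProjSerreLib.SubExt

/-!
# Existence of the dualizing sheaf of a projective scheme
-/

set_option autoImplicit false
set_option backward.isDefEq.respectTransparency false
set_option linter.style.haveILetI false
set_option maxHeartbeats 400000

universe u

open CategoryTheory CategoryTheory.Limits AlgebraicGeometry TopologicalSpace Opposite
open Groth.Agent.PullbackMod Groth.Agent.DCohLib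

noncomputable section

namespace Groth.Agent.ProjSerreLib

open Abelian (Ext)

section Abstract

variable {k : Type u} [Field k] {N n c : ℕ} {X P : Scheme.{u}} [X.Over (Spec (CommRingCat.of k))]
  [P.Over (Spec (CommRingCat.of k))] [HasExt.{u} P.Modules] (ι : X ⟶ P) [IsClosedImmersion ι]
  {W : P.Modules} (τ : Coh.HH P W N →ₗ[k] k) {ω : X.Modules}

/-- A dualizing sheaf from a universal Ext class and duality on the ambient scheme. -/
theorem exists_trace_of_universal (hi : ι ≫ (P ↘ Spec (CommRingCat.of k)) = X ↘ Spec (CommRingCat.of k))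
    (h : n + c = N) (hω : Coh.IsQCoh ω)
    (η : Ext.{u} ((Scheme.Modules.pushforward ι).obj ω) W c)
    (hη : ∀ F : X.Modules, Coh.IsCoh F → Function.Bijective fun φ : F ⟶ ω =>
      (Ext.mk₀ ((Scheme.Modules.pushforward ι).map φ)).comp η (zero_add c))
    (hpair : ∀ F : X.Modules, Coh.IsCoh F →
      Function.Bijective (pairT τ (G := (Scheme.Modules.pushforward ι).obj F) h)) :
    ∃ t : Coh.HH X ω n →ₗ[k] k, ∀ F : X.Modules, Coh.IsCoh F → ∀ ψ : Coh.HH X F n →ₗ[k] k,
      ∃! φ : F ⟶ ω, ∀ x : Coh.HH X F n,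
        ψ x = t (Sheaf.H.map ((SheafOfModules.toSheaf X.ringCatSheaf).map φ) n x) := by
  obtain ⟨e, he⟩ := exists_push_natural ι hi n
  refine ⟨(pairT τ h η).comp (e ω hω).toLinearMap, fun F hF ψ => ?_⟩
  let Φ : (F ⟶ ω) → Module.Dual k (Coh.HH X F n) := fun φ =>
    (pairT τ h ((Ext.mk₀ ((Scheme.Modules.pushforward ι).map φ)).comp η (zero_add c))).comp (e F hF.1).toLinearMap
  have hΦ : ∀ (φ : F ⟶ ω) (x : Coh.HH X F n), Φ φ x =
      pairT τ h η (e ω hω (CurveLib.hMap (k := k) φ n x)) := fun φ x => by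
    rw [he F ω hF.1 hω φ x]
    exact pairT_mk₀_comp τ h _ η _
  have hb : Function.Bijective Φ :=
    ((LinearEquiv.dualMap (e F hF.1)).bijective.comp (hpair F hF)).comp (hη F hF)
  obtain ⟨φ, rfl⟩ := hb.2 ψ
  exact ⟨φ, hΦ φ, fun φ' hφ' => hb.1 (LinearMap.ext fun x => (hΦ φ' x).trans (hφ' x).symm)⟩

end Abstract

section OnPS

variable {k : Type u} [Field k] {N n : ℕ}

theorem isZero_extω_sub [HasInjectiveResolutions (ModSite.Mod (CohB1.ProjSpace N k).sheaf)] {X : Scheme.{u}} (ι : X ⟶ CohB1.ProjSpace N k) [IsClosedImmersion ι]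
    (hdim : topologicalKrullDim ↥X ≤ (n : WithBot ℕ∞)) {q : ℕ} (hq : q + n < N) :
    IsZero (extω (k := k) (n := N) ((Scheme.Modules.pushforward ι).obj (Coh.structureModule X)) q) := by
  haveI := isNoetherian_sub ι
  have hO : Coh.IsCoh (Coh.structureModule X) := DevLib.isCoh_structureModule X
  refine (vanish_iff_extω (isCoh_push ι hO) (show (N - q) + q = N by omega)).1 ⟨0, fun m _ => ?_⟩
  rw [← subsingleton_HH_twistOn_iff ι hO]
  exact CurveLib.subsingleton_HH_of_dim _ (d := n) hdim (by omega)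

/-- The Ext sheaf in the codimension is a dualizing sheaf. -/
theorem exists_trace (hn : n ≤ N) {X : Scheme.{u}} [X.Over (Spec (CommRingCat.of k))]
    (ι : X ⟶ CohB1.ProjSpace N k) [IsClosedImmersion ι]
    (hι : ι ≫ CohB1.ProjSpace.toSpec N k = X ↘ Spec (CommRingCat.of k))
    (hdim : topologicalKrullDim ↥X ≤ (n : WithBot ℕ∞))
    [ModSite.HasSheafHom (O := (CohB1.ProjSpace N k).sheaf) ((Scheme.Modules.pushforward ι).obj (Coh.structureModule X))]
    [HasInjectiveResolutions (ModSite.Mod (CohB1.ProjSpace N k).sheaf)]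
    (ω : X.Modules)
    (hω : Nonempty ((Scheme.Modules.pushforward ι).obj ω ≅
      (ModSite.extSh (O := (CohB1.ProjSpace N k).sheaf) ((Scheme.Modules.pushforward ι).obj (Coh.structureModule X))
        (N - n)).obj (Twist.twistProjSpace N k (-((N : ℤ) + 1))))) :
    ∃ t : Coh.HH X ω n →ₗ[k] k, ∀ F : X.Modules, Coh.IsCoh F → ∀ ψ : Coh.HH X F n →ₗ[k] k,
      ∃! φ : F ⟶ ω, ∀ x : Coh.HH X F n,
        ψ x = t (Sheaf.H.map ((SheafOfModules.toSheaf X.ringCatSheaf).map φ) n x) := by
  haveI := CMRegLib.isNoetherian_projSpace (k := k) (n := N)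
  haveI := isNoetherian_sub ι
  haveI : EnoughInjectives (CohB1.ProjSpace N k).Modules := SiteBase.enoughInjectives_sheafOfModules _
  haveI : HasExt.{u} (CohB1.ProjSpace N k).Modules := CategoryTheory.hasExt_of_enoughInjectives _
  obtain ⟨e⟩ := hω
  have hO : Coh.IsCoh (Coh.structureModule X) := DevLib.isCoh_structureModule X
  have hcoh : Coh.IsCoh ω := isCoh_of_push ι (ProjCoh.isCoh_of_iso e.symm (isCoh_extω (isCoh_push ι hO) (N - n)))
  let R := injectiveResolution (Twist.twistProjSpace N k (-((N : ℤ) + 1)) : (CohB1.ProjSpace N k).Modules)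
  have hz : ∀ q, q < N - n → IsZero ((shCx ι R).homology q) := fun q hq => by
    obtain ⟨e'⟩ := nonempty_extSh_shCx ι R q
    exact isZero_of_push ι ((isZero_extω_sub ι hdim (by omega)).of_iso e'.symm)
  obtain ⟨η, hη⟩ := exists_universal_ext ι R (N - n) hz
  obtain ⟨e'⟩ := nonempty_extSh_shCx ι R (N - n)
  let θ : ω ≅ (shCx ι R).homology (N - n) := isoOfPush ι (e ≪≫ e')
  refine exists_trace_of_universal ι (traceP k N) hι (show n + (N - n) = N by omega) hcoh.1
    ((Ext.mk₀ ((Scheme.Modules.pushforward ι).map θ.hom)).comp η (zero_add _)) (fun F _ => ?_)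
    (fun F hF => pairP_bijective (N - n) (show n + (N - n) = N by omega) (isCoh_push ι hF))
  have h2 : Function.Bijective fun φ : F ⟶ ω => φ ≫ θ.hom := θ.homToEquiv.bijective
  refine Eq.mp (congrArg Function.Bijective ?_) ((hη F).comp h2)
  funext φ
  show (Ext.mk₀ ((Scheme.Modules.pushforward ι).map (φ ≫ θ.hom))).comp η (zero_add _) = _
  rw [Functor.map_comp, ← Ext.mk₀_comp_mk₀, Ext.comp_assoc_of_second_deg_zero]

end OnPS

end Groth.Agent.ProjSerreLib
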