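import Groth.Agent.ProjSerreLib.SubExt
import Groth.Agent.ProjSerreLib.HomContra
import Groth.Agent.CMRegLib.OnX
import Groth.Agent.BCLib.SteinFlat

/-!
# Duality on Cohen–Macaulay projective schemes
-/

set_option autoImplicit false
set_option backward.isDefEq.respectTransparency false
set_option linter.style.haveILetI false
set_option maxHeartbeats 400000

universe u

open CategoryTheory CategoryTheory.Limits AlgebraicGeometry TopologicalSpace Opposite
open Groth.Agent.PullbackMod Groth.Agent.DCohLib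

noncomputable section

namespace Groth.Agent.ProjSerreLib

section Sigma

variable (k : Type u) [Field k] {X : Scheme.{u}} [X.Over (Spec (CommRingCat.of k))]

local instance hasHFG (M : X.Modules) : ModSite.HasSheafHom (O := X.sheaf) M :=
  ModTensor.hasSheafHom (O := X.sheaf) M

include k in
theorem subsingleton_HH_sigma {b : ℕ} (f : Fin b → X.Modules) {i : ℕ}
    (h : ∀ j, Subsingleton (Coh.HH X (f j) i)) : Subsingleton (Coh.HH X (∐ f) i) := by
  classical
  refine subsingleton_of_forall_eq 0 fun z => ?_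
  let p : ∀ j, (∐ f) ⟶ f j := fun j => Sigma.desc fun i => if e : i = j then eqToHom (congrArg f e) else 0
  have htot : ∑ j, p j ≫ Sigma.ι f j = 𝟙 _ := by
    refine Sigma.hom_ext _ _ fun i => ?_
    simp [p, Preadditive.comp_sum, dite_comp, Finset.sum_dite_eq]
  rw [← HorrocksPnLib.hMap_id k _ i z, ← htot, HorrocksPnLib.hMap_sum]
  refine Finset.sum_eq_zero fun j _ => ?_
  rw [HorrocksPnLib.hMap_comp, @Subsingleton.elim _ (h j) (CurveLib.hMap (k := k) (p j) i z) 0, map_zero]

include k in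
theorem subsingleton_HH_hF_sigma {b : ℕ} {L : X.Modules} (hL : FlatMod.IsFinLocFree L) (N : X.Modules) {i : ℕ}
    (h : Subsingleton (Coh.HH X ((StalkHomLib.hF L).obj N) i)) :
    Subsingleton (Coh.HH X ((StalkHomLib.hF (∐ fun _ : Fin b => L)).obj N) i) := by
  classical
  refine subsingleton_of_forall_eq 0 fun z => ?_
  have hP : FlatMod.IsFinLocFree (∐ fun _ : Fin b => L) := DCohLib.isFinLocFree_sigma b _ fun _ => hL
  let p : Fin b → ((∐ fun _ : Fin b => L) ⟶ L) := fun j => Sigma.desc fun i => if i = j then 𝟙 _ else 0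
  have htot : ∑ j, p j ≫ Sigma.ι (fun _ : Fin b => L) j = 𝟙 _ := by
    refine Sigma.hom_ext _ _ fun i => ?_
    simp [p, Preadditive.comp_sum, ite_comp, Finset.sum_ite_eq]
  rw [← HorrocksPnLib.hMap_id k _ i z, ← preMap_id _ hP, ← htot, preMap_sum _ _ _ hP, HorrocksPnLib.hMap_sum]
  refine Finset.sum_eq_zero fun j _ => ?_
  rw [preMap_comp _ _ _ hP, HorrocksPnLib.hMap_comp,
    @Subsingleton.elim _ h (CurveLib.hMap (k := k) (preMap (Sigma.ι (fun _ : Fin b => L) j) N) i z) 0, map_zero]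

end Sigma

variable {k : Type u} [Field k] {N n : ℕ} {X : Scheme.{u}} [X.Over (Spec (CommRingCat.of k))]
  [IsProper (X ↘ Spec (CommRingCat.of k))] (ι : X ⟶ CohB1.ProjSpace N k) [IsClosedImmersion ι]

local instance hasHFG' (M : X.Modules) : ModSite.HasSheafHom (O := X.sheaf) M :=
  ModTensor.hasSheafHom (O := X.sheaf) M

/-- The twisting sheaf of the subscheme. -/
abbrev twX (d : ℤ) : X.Modules := (Scheme.Modules.pullback ι).obj (Twist.twistProjSpace N k d)

include ι in
theorem flf_twX (d : ℤ) : FlatMod.IsFinLocFree (twX ι d) :=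
  CurveLib.isFinLocFree_of_isInvertible (AmpleLib.isInvertible_pullback ι (CMRegLib.isInvertible_O _))

/-- Coherent modules are quotients of sums of a very negative twist. -/
theorem exists_epi_sum {F : X.Modules} (hF : Coh.IsCoh F) :
    ∃ m₀ : ℤ, ∀ m : ℤ, m₀ ≤ m → ∃ (b : ℕ) (φ : (∐ fun _ : Fin b => twX ι (-m)) ⟶ F), Epi φ := by
  obtain ⟨N₀, hN⟩ := CMRegLib.spanAt_eventually k ι hF
  refine ⟨N₀, fun m hm => ?_⟩
  obtain ⟨K, rfl⟩ : ∃ K : ℕ, m = (K : ℤ) := ⟨m.toNat, by omega⟩
  let G := Pic13.twistOn k ι F (K : ℤ)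
  have hG : Coh.IsCoh G := CMRegLib.xIsCoh_twist (k := k) (i := ι) hF _
  have hgg : Curv2.IsGloballyGenerated G :=
    AmpleEmb.isGloballyGenerated_of_span (fun σ => σ) fun x => hN K (by omega) x
  haveI := EulerIneqLib.finite_HH (k := k) (X := X) hG 0
  obtain ⟨b, v, hv⟩ := Module.Finite.exists_fin (R := k) (M := Coh.HH X G 0)
  let s : Fin b → Γ(G, ⊤) := fun j => (RpushLib.h0Γ G).symm (v j)
  have hs : ∀ σ : Γ(G, ⊤), ∃ r : Fin b → Γ(X, ⊤), σ = ∑ j, r j • s j := fun σ => by
    obtain ⟨c, hc⟩ := (Submodule.mem_span_range_iff_exists_fun k).1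
      (show RpushLib.h0Γ G σ ∈ Submodule.span k (Set.range v) by rw [hv]; trivial)
    refine ⟨fun j => Coh.toGlobal (X ↘ Spec (CommRingCat.of k)) (c j), (RpushLib.h0Γ G).injective ?_⟩
    rw [map_sum, ← hc]
    refine Finset.sum_congr rfl fun j _ => ?_
    rw [RpushLib.h0Γ_smul, AddEquiv.apply_symm_apply]
    rfl
  haveI := CMRegLib.epi_of_surjective_sections _ (CMRegLib.surjective_desc_secHom s hs) hgg
  obtain ⟨θ₀⟩ : Nonempty (Pic13.twistOn k ι F 0 ≅ F) := by
    refine ⟨((DCoh.tensorBi (X := X)).obj F).mapIso ((Scheme.Modules.pullback ι).mapIso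
      (asIso (ProjCoh.unitToTwist (CohB1.polyGrading N k))).symm ≪≫ ProjCoh.pullUnit ι) ≪≫
      DCohLib.tensorStructureIso F⟩
  let θ : CohB1.tensorMod G (twX ι (-(K : ℤ))) ≅ F := CMRegLib.xMulIso k ι F (add_neg_cancel (K : ℤ)) ≪≫ θ₀
  obtain ⟨φ, hφ, -⟩ := CMRegLib.exists_twisted
    (AmpleLib.isInvertible_pullback ι (CMRegLib.isInvertible_O (k := k) (n := N) (-(K : ℤ))))
    (Sigma.desc fun j => DCohLib.secHom G (s j)) θ (CMRegLib.sigmaUnitIso (twX ι (-(K : ℤ))) b)
  exact ⟨b, φ, hφ⟩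

variable {ω : X.Modules} (hω : Coh.IsCoh ω)
  (hvan : ∀ P : X.Modules, FlatMod.IsFinLocFree P → ∃ m₀ : ℤ, ∀ m : ℤ, m₀ ≤ m → ∀ j, j < n →
    Subsingleton (Coh.HH X (Pic13.twistOn k ι P (-m)) j))

include hω hvan in
/-- A resolution step adapted to duality. -/
theorem exists_step_gen {F : X.Modules} (hF : Coh.IsCoh F) :
    ∃ S : ShortComplex X.Modules, S.ShortExact ∧ S.X₃ = F ∧ Coh.IsCoh S.X₁ ∧ FlatMod.IsFinLocFree S.X₂ ∧
      (∀ q, q < n → Subsingleton (Coh.HH X S.X₂ q)) ∧
      ∀ i, 1 ≤ i → i ≤ n + 1 → Subsingleton (Coh.HH X ((StalkHomLib.hF S.X₂).obj ω) i) := by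
  haveI := EulerIneqLib.isNoetherian_proper (X := X) k
  obtain ⟨m₁, h₁⟩ := exists_epi_sum ι hF
  obtain ⟨m₂, h₂⟩ := hvan _ (BCLib.isFinLocFree_structureModule X)
  choose d₀ hd using fun i : ℕ => CMRegLib.xEventually_vanish k ι hω (Nat.succ_pos i)
  let M : ℤ := max (max m₁ m₂) ((Finset.range (n + 1)).sup' ⟨0, by simp⟩ d₀)
  obtain ⟨b, φ, hφ⟩ := h₁ M ((le_max_left _ _).trans (le_max_left _ _))
  have hflf : FlatMod.IsFinLocFree (∐ fun _ : Fin b => twX ι (-M)) := DCohLib.isFinLocFree_sigma b _ fun _ => flf_twX ι _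
  refine ⟨_, CMRegLib.shortExact_ker φ, rfl,
    (QCohLib.isCoh_kernel_cokernel φ (CurveLib.isCoh_of_isFinLocFree hflf) hF).1, hflf, fun q hq => ?_, fun i hi hin => ?_⟩
  · refine subsingleton_HH_sigma k _ fun _ => ?_
    haveI := h₂ M ((le_max_right _ _).trans (le_max_left _ _)) q hq
    exact ProjCoh.subsingleton_of_iso (M := Pic13.twistOn k ι (Coh.structureModule X) (-M))
      (AmpleLib.unitL (twX ι (-M))) q
  · refine subsingleton_HH_hF_sigma k (flf_twX ι _) ω ?_
    obtain ⟨η⟩ := HorrocksPnLib.nonempty_cancel_twist (k := k) (n := N) (neg_add_cancel M)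
    let η' : CohB1.tensorMod (twX ι (-M)) (twX ι M) ≅ Coh.structureModule X :=
      (AmpleLib.pullTensor ι _ _).symm ≪≫ (Scheme.Modules.pullback ι).mapIso η ≪≫ ProjCoh.pullUnit ι
    obtain ⟨ψ⟩ := nonempty_hF_invertible η' ω
    obtain ⟨p, rfl⟩ : ∃ p, i = p + 1 := ⟨i - 1, by omega⟩
    haveI := hd p M ((Finset.le_sup' d₀ (Finset.mem_range.2 (show p < n + 1 by omega))).trans (le_max_right _ _))
    exact ProjCoh.subsingleton_of_iso (M := Pic13.twistOn k ι ω M) ψ.symm (p + 1)

variable (t : Coh.HH X ω n →ₗ[k] k) (hn : topologicalKrullDim ↥X ≤ (n : WithBot ℕ∞))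
  (hdual : ∀ F : X.Modules, Coh.IsCoh F → ∀ ψ : Coh.HH X F n →ₗ[k] k,
    ∃! φ : F ⟶ ω, ∀ x : Coh.HH X F n, ψ x = t (Sheaf.H.map ((SheafOfModules.toSheaf X.ringCatSheaf).map φ) n x))

omit [IsProper (X ↘ Spec (CommRingCat.of k))] in
include hdual in
theorem nonempty_hom_dual_gen {F : X.Modules} (hF : Coh.IsCoh F) :
    Nonempty ((F ⟶ ω) ≃ₗ[k] Module.Dual k (Coh.HH X F n)) := by
  let Φ : (F ⟶ ω) →ₗ[k] Module.Dual k (Coh.HH X F n) :=
    { toFun := fun φ => t.comp (CurveLib.hMap (k := k) φ n)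
      map_add' := fun a b => LinearMap.ext fun z =>
        (congrArg t (HorrocksPnLib.hMap_add k a b n z)).trans (map_add t _ _)
      map_smul' := fun r a => LinearMap.ext fun z => by
        show t (CurveLib.hMap (k := k) (r • a) n z) = r • t (CurveLib.hMap (k := k) a n z)
        have e : r • a = a ≫ (VBLib.cst k ω r : ω ⟶ ω) := by
          rw [← VBLib.cst_natural k a r]
          refine Scheme.Modules.hom_ext _ _ fun U => AddCommGrpCat.hom_ext (AddMonoidHom.ext fun s => ?_)
          show (r • a).app U s = a.app U ((FactorOne.mulEnd F _).app U s)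
          rw [KLin.smul_app_apply, FactorOne.mulEnd_app, Scheme.Modules.Hom.app_smul]
        rw [e, HorrocksPnLib.hMap_comp, HorrocksPnLib.hMap_cst, map_smul] }
  refine ⟨LinearEquiv.ofBijective Φ ⟨fun a b hab => ?_, fun ψ => ?_⟩⟩
  · exact (hdual F hF (Φ a)).unique (fun x => rfl) (fun x => LinearMap.congr_fun hab x)
  · obtain ⟨φ, hφ, -⟩ := hdual F hF ψ
    exact ⟨φ, LinearMap.ext fun x => (hφ x).symm⟩

include hdual in
theorem finrank_hom_gen {F : X.Modules} (hF : Coh.IsCoh F) :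
    Module.Finite k (F ⟶ ω) ∧ Module.finrank k (F ⟶ ω) = Module.finrank k (Coh.HH X F n) := by
  haveI := EulerIneqLib.isNoetherian_proper (X := X) k
  haveI := EulerIneqLib.finite_HH (k := k) hF n
  obtain ⟨e⟩ := nonempty_hom_dual_gen t hdual hF
  exact ⟨Module.Finite.equiv e.symm, e.finrank_eq.trans Subspace.dual_finrank_eq⟩

include hω hvan hn hdual in
/-- Duality for locally free modules, as an equality of dimensions. -/
theorem finrank_hF_gen : ∀ (j : ℕ), j ≤ n → ∀ F : X.Modules, FlatMod.IsFinLocFree F →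
    Module.finrank k (Coh.HH X ((StalkHomLib.hF F).obj ω) j) = Module.finrank k (Coh.HH X F (n - j)) := by
  haveI := EulerIneqLib.isNoetherian_proper (X := X) k
  have h00 : ∀ F : X.Modules, FlatMod.IsFinLocFree F →
      Module.finrank k (Coh.HH X ((StalkHomLib.hF F).obj ω) 0) = Module.finrank k (Coh.HH X F n) := fun F hF => by
    haveI := (CurveLib.isCoh_of_isFinLocFree hF).1
    exact ((BCLib.gammaH0 (A := k) _).symm.trans (homSectEquiv k F ω)).finrank_eq.trans
      (finrank_hom_gen t hdual (CurveLib.isCoh_of_isFinLocFree hF)).2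
  have hcoh : ∀ P : X.Modules, FlatMod.IsFinLocFree P → Coh.IsCoh ((StalkHomLib.hF P).obj ω) := fun P hP => by
    obtain ⟨e⟩ : Nonempty (CohB1.tensorMod ω (LocFreeHomLib.dualE P) ≅ (StalkHomLib.hF P).obj ω) :=
      haveI := LocFreeHomLib.isIso_alpha P hP ω
      ⟨asIso (LocFreeHomLib.alpha P ω)⟩
    exact ProjCoh.isCoh_of_iso e
      (CurveLib.isCoh_tmod hω (CurveLib.isCoh_of_isFinLocFree (DCohMore.isFinLocFree_dual P hP)))
  intro j
  induction j with
  | zero => exact fun _ F hF => h00 F hF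
  | succ j ih =>
    intro hj F hF
    obtain ⟨S, hS, h3, hc1, h2, hP, hP'⟩ := exists_step_gen ι hω hvan (CurveLib.isCoh_of_isFinLocFree hF)
    subst h3
    have h1 : FlatMod.IsFinLocFree S.X₁ := DCohLib.isFinLocFree_of_shortExact hS h2 hF
    obtain ⟨p, hp⟩ : ∃ p, n = p + (j + 1) := ⟨n - (j + 1), by omega⟩
    have hS' := shortExact_homSeq ω hS h1 h2 hF
    rcases Nat.eq_zero_or_pos j with rfl | hj0
    · rw [show n - (0 + 1) = p by omega]
      haveI := hP p (by omega)
      haveI : Subsingleton (Coh.HH X S.X₁ (p + 2)) :=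
        CurveLib.subsingleton_HH_of_dim _ (d := n) hn (by omega)
      haveI : Subsingleton (Coh.HH X (homSeq ω S h1).X₂ 1) := hP' 1 le_rfl (by omega)
      have e1 := finrank_four k hS hc1 (CurveLib.isCoh_of_isFinLocFree h2) (CurveLib.isCoh_of_isFinLocFree hF) p
      have e2 := finrank_bottom k hS' (hcoh _ hF) (hcoh _ h2) (hcoh _ h1)
      rw [show p + 1 = n by omega] at e1
      dsimp only [homSeq] at e2
      have d1 := h00 _ h1
      have d2 := h00 _ h2
      have d3 := h00 _ hF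
      have e : Module.finrank k (Coh.HH X ((StalkHomLib.hF S.X₃).obj ω) (0 + 1)) =
          Module.finrank k (Coh.HH X ((StalkHomLib.hF S.X₃).obj ω) 1) := rfl
      omega
    · rw [show n - (j + 1) = p by omega]
      haveI := hP p (by omega)
      haveI := hP (p + 1) (by omega)
      haveI : Subsingleton (Coh.HH X (homSeq ω S h1).X₂ j) := hP' j hj0 (by omega)
      haveI : Subsingleton (Coh.HH X (homSeq ω S h1).X₂ (j + 1)) := hP' (j + 1) (by omega) (by omega)
      have e1 := finrank_shift k hS p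
      have e2 := finrank_shift k hS' j
      have e3 := ih (by omega) S.X₁ h1
      rw [show n - j = p + 1 by omega] at e3
      rw [e1, ← e3]
      exact e2.symm

variable [HasExt.{u} X.Modules]

open Abelian (Ext)

include hω hvan hn hdual in
/-- Duality for Ext groups, as an equality of dimensions. -/
theorem finrank_ext_gen : ∀ (i : ℕ), i ≤ n → ∀ F : X.Modules, Coh.IsCoh F →
    Module.Finite k (Ext.{u} F ω i) ∧ Module.finrank k (Ext.{u} F ω i) = Module.finrank k (Coh.HH X F (n - i)) := by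
  haveI := EulerIneqLib.isNoetherian_proper (X := X) k
  have h00 : ∀ F : X.Modules, Coh.IsCoh F →
      Module.Finite k (Ext.{u} F ω 0) ∧ Module.finrank k (Ext.{u} F ω 0) = Module.finrank k (Coh.HH X F n) :=
    fun F hF => by
    haveI := (finrank_hom_gen t hdual hF).1
    exact ⟨Module.Finite.equiv (Ext.linearEquiv₀ (R := k)).symm,
      (Ext.linearEquiv₀ (R := k)).finrank_eq.trans (finrank_hom_gen t hdual hF).2⟩
  intro i
  induction i with
  | zero => exact fun _ F hF => h00 F hF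
  | succ i ih =>
    intro hi F hF
    obtain ⟨S, hS, h3, hc1, h2, hP, hP'⟩ := exists_step_gen ι hω hvan hF
    subst h3
    have hE : ∀ q, 1 ≤ q → q ≤ n + 1 → Subsingleton (Ext.{u} S.X₂ ω q) := fun q hq hqn =>
      subsingleton_ext_flf_gen h2 (hP' q hq hqn)
    have hc2 := CurveLib.isCoh_of_isFinLocFree h2
    obtain ⟨p, hp⟩ : ∃ p, n = p + (i + 1) := ⟨n - (i + 1), by omega⟩
    rcases Nat.eq_zero_or_pos i with rfl | hi0
    · haveI := (h00 _ hc1).1
      haveI := (h00 _ hc2).1
      haveI := (h00 _ hF).1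
      obtain ⟨hfin, e⟩ := ext_bottom (k := k) hS ω (hE 1 le_rfl (by omega))
      refine ⟨hfin, ?_⟩
      haveI := hP p (by omega)
      haveI : Subsingleton (Coh.HH X S.X₁ (p + 2)) :=
        CurveLib.subsingleton_HH_of_dim _ (d := n) hn (by omega)
      have e1 := finrank_four k hS hc1 hc2 hF p
      rw [(h00 _ hc1).2, (h00 _ hc2).2, (h00 _ hF).2] at e
      rw [show p + 1 = n by omega] at e1
      rw [show n - (0 + 1) = p by omega]
      have : Module.finrank k (Ext.{u} S.X₃ ω (0 + 1)) = Module.finrank k (Ext.{u} S.X₃ ω 1) := rfl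
      omega
    · obtain ⟨hf, hd⟩ := ih (by omega) S.X₁ hc1
      obtain ⟨e⟩ := ext_shift (k := k) hS ω (hE i hi0 (by omega)) (hE (i + 1) (by omega) (by omega))
      haveI := hf
      refine ⟨Module.Finite.equiv e, ?_⟩
      haveI := hP p (by omega)
      haveI := hP (p + 1) (by omega)
      rw [← e.finrank_eq, hd, show n - i = p + 1 by omega, show n - (i + 1) = p by omega, finrank_shift k hS p]

end Groth.Agent.ProjSerreLib
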