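import Groth.Agent.ProjSerreLib.Criterion
import Groth.Agent.NakaiLib.Push
import Groth.Agent.CMRegLib.OnX
import Groth.Agent.FormalLib.ProperSupport
import Groth.Agent.DevLib.Closed
import Groth.Agent.DCohLib.ClosedPush
import Groth.Agent.AcycLib.Basic
import Groth.Agent.Depth.FlatLocal
import Groth.Agent.S5756

/-!
# Negative twists on a closed subscheme of projective space
-/

set_option autoImplicit false
set_option backward.isDefEq.respectTransparency false
set_option linter.style.haveILetI false
set_option maxHeartbeats 400000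

universe u

open CategoryTheory CategoryTheory.Limits AlgebraicGeometry TopologicalSpace Opposite
open Groth.Agent.PullbackMod Groth.Agent.DCohLib

noncomputable section

namespace Groth.Agent.ProjSerreLib

theorem le_depth_of_free {R : Type u} [CommRing R] [IsLocalRing R] [IsNoetherianRing R] (M : Type u)
    [AddCommGroup M] [Module R M] [Module.Finite R M] [Module.Free R M] (d : ℕ)
    (h : (d : ℕ∞) ≤ LocCoh.depth R R) : (d : ℕ∞) ≤ LocCoh.depth R M := by
  rw [LocCoh.depth, Depth.le_idealDepth_iff (AcycLib.smul_top_ne_top (R := R) (M := R))] at h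
  obtain ⟨rs, hlen, hmem, hreg⟩ := h
  rw [Depth.depth_congr (Module.finBasis R M).equivFun, ← hlen]
  exact AcycLib.length_le_depth_pi _ rs hmem hreg

variable {k : Type u} [Field k] {n : ℕ} {X : Scheme.{u}} (ι : X ⟶ CohB1.ProjSpace n k) [IsClosedImmersion ι]

local notation "PS" => CohB1.ProjSpace n k
local notation "O(" d ")" => Twist.twistProjSpace n k d

include ι in
theorem isNoetherian_sub : IsNoetherian X :=
  haveI := CMRegLib.isNoetherian_projSpace (k := k) (n := n)
  haveI : IsLocallyNoetherian X := LocallyOfFiniteType.isLocallyNoetherian ι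
  haveI : CompactSpace X := QuasiCompact.compactSpace_of_compactSpace ι
  ⟨⟩

theorem isCoh_push {M : X.Modules} (hM : Coh.IsCoh M) : Coh.IsCoh ((Scheme.Modules.pushforward ι).obj M) :=
  haveI := CMRegLib.isNoetherian_projSpace (k := k) (n := n)
  DevLib.isCoh_pushforward_closed ι hM

/-- Cohomology of twists on the subscheme as cohomology on projective space. -/
theorem nonempty_HH_twistOn {M : X.Modules} (hM : Coh.IsCoh M) (d : ℤ) (i : ℕ) :
    Nonempty (Coh.HH X (Pic13.twistOn k ι M d) i ≃+
      Coh.HH PS (CohB1.tensorMod ((Scheme.Modules.pushforward ι).obj M) (O(d))) i) := by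
  haveI := isNoetherian_sub ι
  haveI : Coh.IsQCoh (Pic13.twistOn k ι M d) :=
    (CMRegLib.isCoh_tensor_inv hM (AmpleLib.isInvertible_pullback ι (CMRegLib.isInvertible_O d))).1
  obtain ⟨e, -⟩ := ProperFin.exists_pushEquiv ι (FormalLib.affAcyclic_closed ι (Pic13.twistOn k ι M d)) i
  obtain ⟨p⟩ := Nakai.nonempty_proj ι M (flf_O (k := k) (n := n) d)
  exact ⟨e.trans (ProjCoh.hhLinearEquiv ((Scheme.Modules.pushforward ι).mapIso (AmpleLib.comm M _) ≪≫ p.symm ≪≫
    AmpleLib.comm _ _) i).toAddEquiv⟩

theorem subsingleton_HH_twistOn_iff {M : X.Modules} (hM : Coh.IsCoh M) (d : ℤ) (i : ℕ) :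
    Subsingleton (Coh.HH X (Pic13.twistOn k ι M d) i) ↔
      Subsingleton (Coh.HH PS (CohB1.tensorMod ((Scheme.Modules.pushforward ι).obj M) (O(d))) i) :=
  let ⟨e⟩ := nonempty_HH_twistOn ι hM d i
  e.toEquiv.subsingleton_congr

/-- The depth of a direct image at a point of the subscheme. -/
theorem depth_push {M : X.Modules} (hM : Coh.IsCoh M) (x : X) :
    LocCoh.depth ((PS).presheaf.stalk (ι x)) (((Scheme.Modules.pushforward ι).obj M).presheaf.stalk (ι x)) =
      LocCoh.depth (X.presheaf.stalk x) (M.presheaf.stalk x) := by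
  haveI := CMRegLib.isNoetherian_projSpace (k := k) (n := n)
  haveI := isNoetherian_sub ι
  haveI := hM.1
  haveI := finite_stalk_of_isFT hM.2 x
  letI : Algebra ((PS).presheaf.stalk (ι x)) (X.presheaf.stalk x) := (ι.stalkMap x).hom.toAlgebra
  letI : Module ((PS).presheaf.stalk (ι x)) (M.presheaf.stalk x) := Module.compHom _ (ι.stalkMap x).hom
  haveI : IsScalarTower ((PS).presheaf.stalk (ι x)) (X.presheaf.stalk x) (M.presheaf.stalk x) :=
    .of_algebraMap_smul fun _ _ => rfl
  haveI : Module.Finite ((PS).presheaf.stalk (ι x)) (X.presheaf.stalk x) :=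
    Module.Finite.of_surjective (Algebra.linearMap _ _) (ι.stalkMap_surjective x)
  haveI : Module.Finite ((PS).presheaf.stalk (ι x)) (M.presheaf.stalk x) :=
    Module.Finite.trans (X.presheaf.stalk x) _
  haveI : IsLocalHom (algebraMap ((PS).presheaf.stalk (ι x)) (X.presheaf.stalk x)) :=
    inferInstanceAs (IsLocalHom (ι.stalkMap x).hom)
  let e : ((Scheme.Modules.pushforward ι).obj M).presheaf.stalk (ι x) ≃ₗ[(PS).presheaf.stalk (ι x)]
      M.presheaf.stalk x :=
    LinearEquiv.ofBijective
      ({ toFun := DCohLib.pushStalk ι M x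
         map_add' := map_add _
         map_smul' := fun a z => DCohLib.pushStalk_smul ι M x a z } :
        ((Scheme.Modules.pushforward ι).obj M).presheaf.stalk (ι x) →ₗ[(PS).presheaf.stalk (ι x)] M.presheaf.stalk x)
      (DCohLib.bijective_pushStalk ι M x)
  rw [Depth.depth_congr e]
  exact S5756.result ((PS).presheaf.stalk (ι x)) (X.presheaf.stalk x) (M.presheaf.stalk x)

/-- Vanishing of negative twists on the subscheme below a degree is a depth condition. -/
theorem vanish_lt_iff_depth_sub {M : X.Modules} (hM : Coh.IsCoh M) (r : ℕ) :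
    (∃ m₀ : ℤ, ∀ m : ℤ, m₀ ≤ m → ∀ i, i < r → Subsingleton (Coh.HH X (Pic13.twistOn k ι M (-m)) i)) ↔
      ∀ x : X, IsClosed ({x} : Set X) → (r : ℕ∞) ≤ LocCoh.depth (X.presheaf.stalk x) (M.presheaf.stalk x) := by
  simp only [subsingleton_HH_twistOn_iff ι hM]
  rw [vanish_lt_iff_depth (isCoh_push ι hM) r]
  constructor
  · intro h x hx
    rw [← depth_push ι hM x]
    exact h (ι x) (by
      have := ι.isClosedEmbedding.isClosedMap _ hx
      rwa [Set.image_singleton] at this)
  · intro h y hy
    by_cases hr : y ∈ Set.range ι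
    · obtain ⟨x, rfl⟩ := hr
      rw [depth_push ι hM x]
      refine h x ?_
      have := hy.preimage ι.continuous
      rwa [← Set.image_singleton (f := ι) (a := x), Set.preimage_image_eq _ ι.isClosedEmbedding.injective] at this
    · haveI := DCohLib.subsingleton_stalk_pushforward ι M y hr
      rw [CAlgBasics.depth_eq_top]
      exact le_top

/-- Vanishing of negative twists on the subscheme and Ext sheaves. -/
theorem vanish_sub_iff_extω [HasInjectiveResolutions (ModSite.Mod (CohB1.ProjSpace n k).sheaf)] {M : X.Modules}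
    (hM : Coh.IsCoh M) {p j : ℕ} (hpj : p + j = n)
    [ModSite.HasSheafHom (O := (CohB1.ProjSpace n k).sheaf) ((Scheme.Modules.pushforward ι).obj M)] :
    (∃ m₀ : ℤ, ∀ m : ℤ, m₀ ≤ m → Subsingleton (Coh.HH X (Pic13.twistOn k ι M (-m)) p)) ↔
      IsZero ((ModSite.extSh (O := (CohB1.ProjSpace n k).sheaf) ((Scheme.Modules.pushforward ι).obj M) j).obj
        (Twist.twistProjSpace n k (-((n : ℤ) + 1)))) := by
  simp only [subsingleton_HH_twistOn_iff ι hM]
  exact vanish_iff_extω (isCoh_push ι hM) hpj

end Groth.Agent.ProjSerreLib
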