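import Groth.Agent.ProjSerreLib.Criterion
import Groth.Agent.ProjSerreLib.ClosedSub
import Groth.Agent.FibreDepth.Local
import Groth.Agent.S5671
import Groth.Agent.DimFormulaLib.Misc

/-!
# Vanishing of Ext sheaves below the codimension
-/

set_option autoImplicit false
set_option backward.isDefEq.respectTransparency false
set_option linter.style.haveILetI false
set_option maxHeartbeats 400000

universe u

open CategoryTheory CategoryTheory.Limits AlgebraicGeometry TopologicalSpace Opposite
open Groth.Agent.PullbackMod Groth.Agent.DCohLib Groth.Agent.StalkHomLib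

noncomputable section

namespace Groth.Agent.ProjSerreLib

open Abelian (Ext)

theorem isZero_of_closed_stalks_jacobson {X : Scheme.{u}} [JacobsonSpace X] {M : X.Modules} (hM : Coh.IsCoh M)
    (h : ∀ x : X, IsClosed ({x} : Set X) → Subsingleton (M.presheaf.stalk x)) : IsZero M := by
  refine isZero_of_stalks fun x => ?_
  by_contra hx
  have hx' : x ∈ CohB1.support M := hx
  obtain ⟨y, hy, hyc⟩ := nonempty_inter_closedPoints (Z := closure ({x} : Set X)) ⟨x, subset_closure rfl⟩
    isClosed_closure.isLocallyClosed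
  have hy' : y ∈ CohB1.support M := (isClosed_support_of_isFT hM.2).closure_subset_iff.2
    (Set.singleton_subset_iff.2 hx') hy
  exact hy' (h y hyc)

/-- Ext into a finite free module vanishes with Ext into the ring. -/
theorem subsingleton_ext_free {R : Type u} [CommRing R] (M : ModuleCat.{u} R) (N : Type u) [AddCommGroup N]
    [Module R N] [Module.Free R N] [Module.Finite R N] (q : ℕ)
    (h : Subsingleton (Ext.{u} M (ModuleCat.of R R) q)) : Subsingleton (Ext.{u} M (ModuleCat.of R N) q) := by
  let b := Module.Free.chooseBasis R N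
  refine subsingleton_of_forall_eq 0 fun x => ?_
  let p : Module.Free.ChooseBasisIndex R N → (ModuleCat.of R N ⟶ ModuleCat.of R R) := fun i => ModuleCat.ofHom (b.coord i)
  let j : Module.Free.ChooseBasisIndex R N → (ModuleCat.of R R ⟶ ModuleCat.of R N) := fun i =>
    ModuleCat.ofHom (LinearMap.toSpanSingleton R N (b i))
  have e : ∑ i, p i ≫ j i = 𝟙 (ModuleCat.of R N) := by
    refine ModuleCat.hom_ext (LinearMap.ext fun v => ?_)
    rw [ModuleCat.hom_sum, LinearMap.sum_apply]
    exact b.sum_repr v
  rw [← Ext.comp_mk₀_id x, ← e, Ext.mk₀_sum, Ext.comp_sum]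
  refine Finset.sum_eq_zero fun i _ => ?_
  rw [← Ext.mk₀_comp_mk₀, ← Ext.comp_assoc_of_second_deg_zero, @Subsingleton.elim _ h (x.comp _ _) 0, Ext.zero_comp]

variable {P X : Scheme.{u}} [IsLocallyNoetherian P] (ι : X ⟶ P) [IsClosedImmersion ι]

/-- The direct image of the structure sheaf. -/
abbrev pushO : P.Modules := (Scheme.Modules.pushforward ι).obj (Coh.structureModule X)

theorem isCoh_pushO : Coh.IsCoh (pushO ι) :=
  haveI : IsLocallyNoetherian X := LocallyOfFiniteType.isLocallyNoetherian ι
  DevLib.isCoh_pushforward_closed ι (DevLib.isCoh_structureModule X)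

/-- The support dimension of the direct image of the structure sheaf. -/
theorem supportDim_pushO (x : X) :
    Module.supportDim (P.presheaf.stalk (ι x)) ((pushO ι).presheaf.stalk (ι x)) = ringKrullDim (X.presheaf.stalk x) := by
  haveI : IsLocallyNoetherian X := LocallyOfFiniteType.isLocallyNoetherian ι
  letI : Algebra (P.presheaf.stalk (ι x)) (X.presheaf.stalk x) := (ι.stalkMap x).hom.toAlgebra
  letI : Module (P.presheaf.stalk (ι x)) ((Coh.structureModule X).presheaf.stalk x) :=
    Module.compHom _ (ι.stalkMap x).hom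
  haveI : IsScalarTower (P.presheaf.stalk (ι x)) (X.presheaf.stalk x) ((Coh.structureModule X).presheaf.stalk x) :=
    .of_algebraMap_smul fun _ _ => rfl
  haveI := finite_stalk_of_isFT (DevLib.isCoh_structureModule X).2 x
  let e : (pushO ι).presheaf.stalk (ι x) ≃ₗ[P.presheaf.stalk (ι x)] (Coh.structureModule X).presheaf.stalk x :=
    LinearEquiv.ofBijective
      ({ toFun := DCohLib.pushStalk ι (Coh.structureModule X) x
         map_add' := map_add _
         map_smul' := fun a z => DCohLib.pushStalk_smul ι (Coh.structureModule X) x a z } :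
        (pushO ι).presheaf.stalk (ι x) →ₗ[P.presheaf.stalk (ι x)] (Coh.structureModule X).presheaf.stalk x)
      (DCohLib.bijective_pushStalk ι (Coh.structureModule X) x)
  obtain ⟨g, hg⟩ := ParaFLib.exists_stalk_gen (ParaFLib.isInvertible_structureModule (X := X)) x
  rw [Module.supportDim_eq_of_equiv e, FibreDepth.supportDim_of_surjective (ι.stalkMap_surjective x),
    ← Module.supportDim_eq_of_equiv (LinearEquiv.ofBijective (LinearMap.toSpanSingleton _ _ g) hg),
    Module.supportDim_self_eq_ringKrullDim]

variable [ModSite.HasSheafHom (O := P.sheaf) (pushO ι)] [HasInjectiveResolutions (ModSite.Mod P.sheaf)]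

/-- The Ext sheaves out of a closed subscheme into a locally free module vanish below the codimension. -/
theorem isZero_extSh_lt_codim [JacobsonSpace P] (hreg : ∀ p : P, IsRegularLocalRing (P.presheaf.stalk p)) (c : ℕ)
    (hdim : ∀ x : X, IsClosed ({x} : Set X) →
      ringKrullDim (X.presheaf.stalk x) + (c : WithBot ℕ∞) ≤ ringKrullDim (P.presheaf.stalk (ι x)))
    (G : P.Modules) (hG : FlatMod.IsFinLocFree G) {q : ℕ} (hq : q < c) :
    IsZero (((ModSite.extSh (O := P.sheaf) (pushO ι) q).obj G : P.Modules)) := by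
  haveI : HasInjectiveResolutions P.Modules := ‹HasInjectiveResolutions (ModSite.Mod P.sheaf)›
  haveI := (isCoh_pushO ι).1
  haveI : Coh.IsQCoh G := (CurveLib.isCoh_of_isFinLocFree hG).1
  refine isZero_of_closed_stalks_jacobson
    (ExtShLib.isCoh_extS _ (isCoh_pushO ι) _ (CurveLib.isCoh_of_isFinLocFree hG) q) fun p hp => ?_
  let S := P.presheaf.stalk p
  obtain ⟨l⟩ := StalkHomLib.nonempty_stkR_extSh_iso (pushO ι) p (S := S) (RingEquiv.refl _) (isCoh_pushO ι) G q
  refine l.toLinearEquiv.toEquiv.subsingleton_congr.2 ?_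
  obtain ⟨hfree, hfin⟩ := DCohLib.free_finite_stalk_of_flf hG p
  let aF : ModuleCat.of S ((pushO ι).presheaf.stalk p) ≅ (stkR p (RingEquiv.refl S)).obj (pushO ι) :=
    LinearEquiv.toModuleIso (X₂ := (stkR p (RingEquiv.refl S)).obj (pushO ι))
      { AddEquiv.refl ((pushO ι).presheaf.stalk p) with map_smul' := fun _ _ => rfl }
  let aG : ModuleCat.of S (G.presheaf.stalk p) ≅ (stkR p (RingEquiv.refl S)).obj G :=
    LinearEquiv.toModuleIso (X₂ := (stkR p (RingEquiv.refl S)).obj G)
      { AddEquiv.refl (G.presheaf.stalk p) with map_smul' := fun _ _ => rfl }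
  refine subsingleton_ext_iso aF.symm aG.symm q ?_
  haveI := finite_stalk_of_isFT (isCoh_pushO ι).2 p
  haveI := hreg p
  by_cases hr : p ∈ Set.range ι
  · obtain ⟨x, rfl⟩ := hr
    refine subsingleton_ext_free _ _ q (S5671.result S _ c ?_ q hq)
    rw [supportDim_pushO]
    refine hdim x ?_
    rw [ι.isClosedEmbedding.isClosed_iff_image_isClosed, Set.image_singleton]
    exact hp
  · haveI : Subsingleton ((pushO ι).presheaf.stalk p) := DCohLib.subsingleton_stalk_pushforward ι _ p hr
    refine subsingleton_of_forall_eq 0 fun x => ?_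
    have h0 : IsZero (ModuleCat.of S ((pushO ι).presheaf.stalk p)) := ModuleCat.isZero_of_subsingleton _
    rw [← Ext.mk₀_id_comp x, h0.eq_of_src (𝟙 _) 0, Ext.mk₀_zero, Ext.zero_comp]

end Groth.Agent.ProjSerreLib

namespace Groth.Agent.ProjSerreLib

theorem topologicalKrullDim_le_of_irreducibleComponents {X : Scheme.{u}} (D : WithBot ℕ∞)
    (h : ∀ Z : Set ↥X, Z ∈ irreducibleComponents ↥X → topologicalKrullDim ↥Z ≤ D) : topologicalKrullDim ↥X ≤ D :=
  DimFormulaLib.topologicalKrullDim_le_of_components _ fun η hη => by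
    obtain ⟨C, hC, hηC⟩ : ∃ C ∈ irreducibleComponents ↥X, η ∈ C :=
      ⟨_, irreducibleComponent_mem_irreducibleComponents η, mem_irreducibleComponent⟩
    obtain ⟨g, hg⟩ := QuasiSober.sober hC.1 (isClosed_of_mem_irreducibleComponents C hC)
    obtain rfl := hη g (hg.specializes hηC)
    rw [hg.def]
    exact h C hC

end Groth.Agent.ProjSerreLib
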