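import Groth.Agent.ProjSerreLib.GenericLow
import Groth.Agent.ProjSerreLib.DualExist
import Groth.Agent.PullbackMod.LocFree

/-!
# Dualizing sheaves have no sections supported away from the generic points
-/

set_option autoImplicit false
set_option backward.isDefEq.respectTransparency false
set_option linter.style.haveILetI false
set_option maxHeartbeats 400000

universe u

open CategoryTheory CategoryTheory.Limits AlgebraicGeometry TopologicalSpace Opposite
open Groth.Agent.PullbackMod Groth.Agent.DCohLib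

noncomputable section

namespace Groth.Agent.ProjSerreLib

variable {k : Type u} [Field k] {r : ℕ} {X : Scheme.{u}} [X.Over (Spec (CommRingCat.of k))]
  [AlgebraicGeometry.IsNoetherian X] {ω : X.Modules} (hω : Coh.IsCoh ω) (t : Coh.HH X ω r →ₗ[k] k)
  (hdual : ∀ F : X.Modules, Coh.IsCoh F → ∀ ψ : Coh.HH X F r →ₗ[k] k,
    ∃! φ : F ⟶ ω, ∀ x : Coh.HH X F r, ψ x = t (Sheaf.H.map ((SheafOfModules.toSheaf X.ringCatSheaf).map φ) r x))
  (hX : topologicalKrullDim X ≤ (r : WithBot ℕ∞))

include hdual hX in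
theorem lowVanish (T : X.Modules) (φ : T ⟶ ω) (hT : Coh.IsCoh T)
    (h : ∀ η : X, closure ({η} : Set X) ∈ irreducibleComponents X → η ∉ CohB1.support T) : φ = 0 := by
  haveI := subsingleton_HH_top hT h hX
  exact (hdual T hT 0).unique (fun x => by
      rw [Subsingleton.elim x 0, LinearMap.zero_apply, map_zero, map_zero])
    (fun x => by rw [Subsingleton.elim x 0, LinearMap.zero_apply, map_zero, map_zero])

include hω hdual hX in
/-- A stalk element zero at all the generic points is zero. -/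
theorem germ_eq_zero {x : X} {V : X.Opens} (hx : x ∈ V) (s : Γ(ω, V))
    (hs : ∀ η : X, closure ({η} : Set X) ∈ irreducibleComponents X → ∀ h : η ∈ V, ω.presheaf.germ V η h s = 0) :
    ω.presheaf.germ V x hx s = 0 :=
  eq_zero_of_generic hω (lowVanish t hdual hX) hx s hs

include hω hdual hX in
/-- A map into the dualizing sheaf vanishing at all the generic points is zero. -/
theorem hom_eq_zero {F : X.Modules} (φ : F ⟶ ω)
    (h : ∀ η : X, closure ({η} : Set X) ∈ irreducibleComponents X → stalkLin φ η = 0) : φ = 0 := by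
  refine (eq_zero_iff_stalk φ).2 fun x => LinearMap.ext fun z => ?_
  obtain ⟨V, hV, m, rfl⟩ := TopCat.Presheaf.exists_germ_eq F.presheaf z
  rw [stalkLin_germ]
  refine germ_eq_zero hω t hdual hX hV _ fun η hη hηV => ?_
  rw [← stalkLin_germ φ η hηV m, h η hη]
  rfl

include hω hdual hX in
/-- The dualizing sheaf is torsion free. -/
theorem torsion_eq_bot (x : X) : Submodule.torsion (X.presheaf.stalk x) (ω.presheaf.stalk x) = ⊥ := by
  refine (Submodule.eq_bot_iff _).2 fun z hz => ?_
  obtain ⟨⟨a, ha⟩, haz⟩ := (Submodule.mem_torsion_iff z).1 hz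
  obtain ⟨V₀, hV₀, m₀, rfl⟩ := TopCat.Presheaf.exists_germ_eq ω.presheaf z
  obtain ⟨V₁, hV₁, b₁, rfl⟩ := TopCat.Presheaf.exists_germ_eq X.presheaf a
  obtain ⟨_, ⟨V : X.Opens, (hV : IsAffineOpen V), rfl⟩, hxV, hVle⟩ :=
    X.isBasis_affineOpens.exists_subset_of_mem_open (show x ∈ ((V₀ ⊓ V₁ : X.Opens) : Set X) from ⟨hV₀, hV₁⟩) (V₀ ⊓ V₁).2
  let m : Γ(ω, V) := ω.presheaf.map (homOfLE (hVle.trans inf_le_left : V ≤ V₀)).op m₀
  let b : Γ(X, V) := X.presheaf.map (homOfLE (hVle.trans inf_le_right : V ≤ V₁)).op b₁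
  have em : ω.presheaf.germ V x hxV m = ω.presheaf.germ V₀ x hV₀ m₀ := TopCat.Presheaf.germ_res_apply _ _ _ _ _
  have eb : X.presheaf.germ V x hxV b = X.presheaf.germ V₁ x hV₁ b₁ := TopCat.Presheaf.germ_res_apply _ _ _ _ _
  rw [← em]
  rw [← eb] at ha
  have hbm : ω.presheaf.germ V x hxV (b • m) = 0 := by
    rw [ParaFLib.germ_smul', em, eb]
    exact haz
  -- shrink so that `b • m` vanishes
  obtain ⟨W, hxW, i₁, i₂, hres⟩ := ω.presheaf.germ_eq x hxV hxV (b • m) 0 (hbm.trans (map_zero _).symm)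
  refine (TopCat.Presheaf.germ_res_apply ω.presheaf i₁ x hxW m).symm.trans ?_
  obtain ⟨_, ⟨W' : X.Opens, (hW' : IsAffineOpen W'), rfl⟩, hxW', hW'le⟩ :=
    X.isBasis_affineOpens.exists_subset_of_mem_open (show x ∈ (W : Set X) from hxW) W.2
  rw [← TopCat.Presheaf.germ_res_apply ω.presheaf (homOfLE (hW'le : W' ≤ W)) x hxW']
  let others : Set X := ⋃ Z ∈ irreducibleComponents X \ {Z | x ∈ Z}, Z
  have hcl : IsClosed others :=
    ((TopologicalSpace.NoetherianSpace.finite_irreducibleComponents (α := X)).subset Set.sdiff_subset).isClosed_biUnion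
      fun Z hZ => isClosed_of_mem_irreducibleComponents Z hZ.1
  let W'' : X.Opens := W' ⊓ ⟨othersᶜ, hcl.isOpen_compl⟩
  have hxW'' : x ∈ W'' := ⟨hxW', by
    show x ∉ others
    simp only [others, Set.mem_iUnion]
    rintro ⟨Z, ⟨hZ, hne⟩, hxZ⟩
    exact hne hxZ⟩
  rw [← TopCat.Presheaf.germ_res_apply ω.presheaf (homOfLE (inf_le_left : W'' ≤ W')) x hxW'']
  refine germ_eq_zero hω t hdual hX hxW'' _ fun η hη hηW => ?_
  have hηx : η ⤳ x := by
    by_contra hne
    exact hηW.2 (Set.mem_biUnion ⟨hη, fun hxc => hne (specializes_iff_mem_closure.2 hxc)⟩ (subset_closure rfl))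
  have hηV : η ∈ V := hηx.mem_open V.2 hxV
  rw [TopCat.Presheaf.germ_res_apply, TopCat.Presheaf.germ_res_apply, TopCat.Presheaf.germ_res_apply]
  have hsm : X.presheaf.germ V η hηV b • ω.presheaf.germ V η hηV m = 0 := by
    rw [← ParaFLib.germ_smul', ← TopCat.Presheaf.germ_res_apply ω.presheaf i₁ η (hW'le hηW.1),
      hres, map_zero, map_zero]
  -- `b` is a unit at the maximal point
  suffices hu : IsUnit (X.presheaf.germ V η hηV b) by
    rw [← hu.smul_eq_zero]
    exact hsm
  letI := (X.presheaf.stalkSpecializes hηx).hom.toAlgebra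
  have hb : (X.presheaf.stalkSpecializes hηx) (X.presheaf.germ V x hxV b) = X.presheaf.germ V η hηV b :=
    TopCat.Presheaf.germ_stalkSpecializes_apply X.presheaf hxV hηx b
  by_contra hnu
  let q : PrimeSpectrum (X.presheaf.stalk x) := PrimeSpectrum.comap (X.presheaf.stalkSpecializes hηx).hom
    (IsLocalRing.closedPoint (X.presheaf.stalk η))
  have hmem : X.presheaf.germ V x hxV b ∈ q.asIdeal := by
    show (X.presheaf.stalkSpecializes hηx).hom (X.presheaf.germ V x hxV b) ∈ IsLocalRing.maximalIdeal _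
    rw [IsLocalRing.mem_maximalIdeal]
    exact fun h => hnu (hb ▸ h)
  have hq : X.fromSpecStalk x q = η := by
    rw [show q = Spec.map (X.presheaf.stalkSpecializes hηx) (IsLocalRing.closedPoint (X.presheaf.stalk η)) from rfl,
      ← Scheme.Hom.comp_apply, Scheme.SpecMap_stalkSpecializes_fromSpecStalk, Scheme.fromSpecStalk_closedPoint]
  have hmin : q.asIdeal ∈ minimalPrimes (X.presheaf.stalk x) := by
    refine ⟨⟨q.2, bot_le⟩, fun p hp hpq => ?_⟩
    have h1 : (⟨p, hp.1⟩ : PrimeSpectrum (X.presheaf.stalk x)) ⤳ q := (PrimeSpectrum.le_iff_specializes _ _).1 hpq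
    have h2 := h1.map (X.fromSpecStalk x).continuous
    rw [hq] at h2
    have h3 := isMax'_of_component hη _ h2
    rw [← hq] at h3
    exact ((X.fromSpecStalk x).isEmbedding.injective h3) ▸ le_rfl
  exact (Set.disjoint_left.1 (Ideal.disjoint_nonZeroDivisors_of_mem_minimalPrimes hmin) hmem ha)

end Groth.Agent.ProjSerreLib
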