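import Groth.Agent.ProjSerreLib.DualExist
import Groth.Agent.ProjSerreLib.TorsionFree
import Groth.Agent.DimFormulaLib.Misc

/-!
# Data of the Ext dualizing sheaf on a subscheme of projective space
-/

set_option autoImplicit false
set_option backward.isDefEq.respectTransparency false
set_option linter.style.haveILetI false

universe u

open CategoryTheory CategoryTheory.Limits AlgebraicGeometry

noncomputable section

namespace Groth.Agent.ProjSerreLib

theorem dim_le_of_pure {X : Scheme.{u}} {r : ℕ}
    (heq : ∀ Z : Set ↥X, Z ∈ irreducibleComponents ↥X → topologicalKrullDim ↥Z = (r : WithBot ℕ∞)) :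
    topologicalKrullDim ↥X ≤ (r : WithBot ℕ∞) :=
  DimFormulaLib.topologicalKrullDim_le_of_components _ fun η hη => by
    obtain ⟨C, hC, hηC⟩ : ∃ C ∈ irreducibleComponents ↥X, η ∈ C :=
      ⟨_, irreducibleComponent_mem_irreducibleComponents η, mem_irreducibleComponent⟩
    obtain ⟨g, hg⟩ := QuasiSober.sober hC.1 (isClosed_of_mem_irreducibleComponents C hC)
    obtain rfl := hη g (hg.specializes hηC)
    rw [hg.def]
    exact (heq C hC).le

variable {k : Type u} [Field k] {N n : ℕ}

theorem isCoh_extDual {X : Scheme.{u}} (ι : X ⟶ CohB1.ProjSpace N k) [IsClosedImmersion ι]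
    [ModSite.HasSheafHom (O := (CohB1.ProjSpace N k).sheaf) ((Scheme.Modules.pushforward ι).obj (Coh.structureModule X))]
    [HasInjectiveResolutions (ModSite.Mod (CohB1.ProjSpace N k).sheaf)]
    (ω : X.Modules)
    (hω : Nonempty ((Scheme.Modules.pushforward ι).obj ω ≅
      (ModSite.extSh (O := (CohB1.ProjSpace N k).sheaf) ((Scheme.Modules.pushforward ι).obj (Coh.structureModule X))
        (N - n)).obj (Twist.twistProjSpace N k (-((N : ℤ) + 1))))) : Coh.IsCoh ω := by
  haveI := CMRegLib.isNoetherian_projSpace (k := k) (n := N)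
  haveI := isNoetherian_sub ι
  obtain ⟨e⟩ := hω
  have hO : Coh.IsCoh (Coh.structureModule X) := DevLib.isCoh_structureModule X
  exact isCoh_of_push ι (ProjCoh.isCoh_of_iso e.symm (isCoh_extω (isCoh_push ι hO) (N - n)))

end Groth.Agent.ProjSerreLib
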