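import Mathlib.Algebra.Homology.ShortComplex.Abelian
import Mathlib.Algebra.Homology.ShortComplex.ShortExact
import Mathlib.Algebra.Homology.HomologicalComplexAbelian
import Mathlib.Algebra.Category.ModuleCat.Abelian
import Mathlib.Algebra.Homology.HomologySequence
import Mathlib.Algebra.Homology.ShortComplex.HomologicalComplex
import Mathlib.CategoryTheory.Abelian.Basic

/-!
# Left exact functors and complexes with acyclic terms and acyclic homology
-/

set_option autoImplicit false
set_option maxHeartbeats 400000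
set_option linter.style.haveILetI false

universe w v u

open CategoryTheory CategoryTheory.Limits

noncomputable section

namespace Groth.Agent.ProjSerreLib

variable {C : Type*} [Category C] [Abelian C] {D : Type*} [Category D] [Abelian D] (Φ : C ⥤ D) [Φ.Additive]
  [PreservesFiniteLimits Φ] (P : C → Prop)

/-- The properties making the objects satisfying `P` behave like acyclic objects for `Φ`. -/
structure AcyclicClass : Prop where
  iso : ∀ {A B : C}, (A ≅ B) → P A → P B
  mid : ∀ {S : ShortComplex C}, S.ShortExact → P S.X₁ → P S.X₃ → P S.X₂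
  right : ∀ {S : ShortComplex C}, S.ShortExact → P S.X₁ → P S.X₂ → P S.X₃
  epi : ∀ {S : ShortComplex C}, S.ShortExact → P S.X₁ → Epi (Φ.map S.g)

variable {Φ P}

/-- A short exact sequence with first term acyclic stays short exact. -/
theorem AcyclicClass.shortExact_map (h : AcyclicClass Φ P) {S : ShortComplex C} (hS : S.ShortExact) (h₁ : P S.X₁) :
    (S.map Φ).ShortExact := by
  haveI := hS.mono_f
  haveI : Epi (S.map Φ).g := h.epi hS h₁
  haveI : Mono (S.map Φ).f := inferInstanceAs (Mono (Φ.map S.f))
  exact { exact := hS.exact.map_of_mono_of_preservesKernel Φ inferInstance inferInstance }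

section

variable (h : AcyclicClass Φ P) {K : CochainComplex C ℕ} (hK : ∀ q, P (K.X q))

/-- The inclusion of the cycles. -/
abbrev cycSeq (K : CochainComplex C ℕ) (q : ℕ) : ShortComplex C :=
  ShortComplex.mk (K.iCycles q) (cokernel.π (K.iCycles q)) (cokernel.condition _)

/-- The image of the differential. -/
abbrev toNextCyc (K : CochainComplex C ℕ) (q : ℕ) : cokernel (K.iCycles q) ⟶ K.cycles (q + 1) :=
  cokernel.desc (K.iCycles q) (K.toCycles q (q + 1)) (by
    rw [← cancel_mono (K.iCycles (q + 1)), Category.assoc, HomologicalComplex.toCycles_i,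
      HomologicalComplex.iCycles_d, zero_comp])

theorem shortExact_cycSeq (K : CochainComplex C ℕ) (q : ℕ) : (cycSeq K q).ShortExact :=
  ShortComplex.ShortExact.mk' (ShortComplex.exact_of_g_is_cokernel _ (cokernelIsCokernel _)) inferInstance inferInstance

theorem mono_toNextCyc (K : CochainComplex C ℕ) (q : ℕ) : Mono (toNextCyc K q) := by
  haveI : Mono (toNextCyc K q ≫ K.iCycles (q + 1)) := by
    refine Preadditive.mono_of_cancel_zero _ fun {Z} g hg => ?_
    obtain ⟨Z', p, hp, g', hg'⟩ : ∃ (Z' : C) (p : Z' ⟶ Z) (_ : Epi p) (g' : Z' ⟶ K.X q),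
        p ≫ g = g' ≫ cokernel.π (K.iCycles q) := by
      exact ⟨_, pullback.fst g (cokernel.π (K.iCycles q)), inferInstance, pullback.snd _ _, pullback.condition⟩
    have h0 : g' ≫ K.d q (q + 1) = 0 := by
      have := congrArg (· ≫ toNextCyc K q ≫ K.iCycles (q + 1)) hg'
      simp only [Category.assoc, hg, comp_zero] at this
      rw [← Category.assoc (cokernel.π _), cokernel.π_desc, HomologicalComplex.toCycles_i] at this
      exact this.symm
    haveI := hp
    rw [← cancel_epi p, comp_zero, hg', ← K.liftCycles_i g' (q + 1) (CochainComplex.next ℕ q) h0, Category.assoc,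
      cokernel.condition, comp_zero]
  exact mono_of_mono (toNextCyc K q) (K.iCycles (q + 1))

/-- The boundary sequence. -/
abbrev bdrySeq (K : CochainComplex C ℕ) (q : ℕ) : ShortComplex C :=
  ShortComplex.mk (toNextCyc K q) (K.homologyπ (q + 1)) (by
    rw [← cancel_epi (cokernel.π (K.iCycles q)), cokernel.π_desc_assoc, HomologicalComplex.toCycles_comp_homologyπ,
      comp_zero])

theorem shortExact_bdrySeq (K : CochainComplex C ℕ) (q : ℕ) : (bdrySeq K q).ShortExact := by
  haveI := mono_toNextCyc K q
  refine ShortComplex.ShortExact.mk' (ShortComplex.exact_of_g_is_cokernel _ ?_) inferInstance inferInstance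
  have hc := K.homologyIsCokernel q (q + 1) (CochainComplex.prev_nat_succ q)
  exact CokernelCofork.IsColimit.ofπ _ _
    (fun {Z} g hg => hc.desc (CokernelCofork.ofπ g (by
      show K.toCycles q (q + 1) ≫ g = 0
      have hg' : toNextCyc K q ≫ g = 0 := hg
      have e : cokernel.π (K.iCycles q) ≫ toNextCyc K q = K.toCycles q (q + 1) := cokernel.π_desc _ _ _
      rw [← e]
      exact (Category.assoc _ _ _).trans ((congrArg (_ ≫ ·) hg').trans comp_zero))))
    (fun {Z} g hg => hc.fac _ WalkingParallelPair.one)
    (fun {Z} g hg m hm => (cancel_epi (K.homologyπ (q + 1))).1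
      (hm.trans (hc.fac (CokernelCofork.ofπ g _) WalkingParallelPair.one).symm))

omit [Abelian D] [Φ.Additive] [PreservesFiniteLimits Φ] in
include h hK in
theorem acyc_cycles (i : ℕ) (hH : ∀ q, q ≤ i → P (K.homology q)) : ∀ q, q ≤ i → P (K.cycles q) := by
  intro q
  induction q with
  | zero =>
    intro hq
    haveI := K.isIso_homologyπ _ 0 rfl (K.shape _ _ (by simp))
    exact h.iso (asIso (K.homologyπ 0)).symm (hH 0 hq)
  | succ q ih =>
    intro hq
    exact h.mid (shortExact_bdrySeq K q) (h.right (shortExact_cycSeq K q) (ih (by omega)) (hK q)) (hH _ hq)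

include h hK in
/-- Homology commutes with the functor. -/
theorem nonempty_homology_map_iso (i : ℕ) (hH : ∀ q, q ≤ i → P (K.homology q)) :
    Nonempty (((Φ.mapHomologicalComplex (ComplexShape.up ℕ)).obj K).homology i ≅ Φ.obj (K.homology i)) := by
  have hz := acyc_cycles h hK i hH
  let e : ((Φ.mapHomologicalComplex (ComplexShape.up ℕ)).obj K).sc i ≅ (K.sc i).map Φ := Iso.refl _
  let L : (K.sc i).LeftHomologyData :=
    { K := (K.sc i).cycles
      H := (K.sc i).homology
      i := (K.sc i).iCycles
      π := (K.sc i).homologyπ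
      wi := (K.sc i).iCycles_g
      hi := (K.sc i).cyclesIsKernel
      wπ := (K.sc i).toCycles_comp_homologyπ
      hπ := (K.sc i).homologyIsCokernel }
  suffices hP : L.IsPreservedBy Φ by
    haveI := hP
    exact ⟨(L.map Φ).homologyIso ≪≫ Φ.mapIso L.homologyIso.symm⟩
  rcases i with _ | q
  · refine ⟨inferInstance, ?_⟩
    have hf' : L.f' = 0 := by
      rw [← cancel_mono L.i, L.f'_i, zero_comp]
      exact K.shape _ _ (by simp)
    rw [hf']
    infer_instance
  · refine ⟨inferInstance, ?_⟩
    haveI := mono_toNextCyc K q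
    have hB := h.right (shortExact_cycSeq K q) (hz q (by omega)) (hK q)
    have h1 := h.shortExact_map (shortExact_bdrySeq K q) hB
    haveI he : Epi (Φ.map (cokernel.π (K.iCycles q))) := h.epi (shortExact_cycSeq K q) (hz q (by omega))
    have h0 : (ShortComplex.mk (K.toCycles q (q + 1)) (K.homologyπ (q + 1))
        (K.toCycles_comp_homologyπ q (q + 1))).map Φ |>.Exact := by
      let φ : (ShortComplex.mk (K.toCycles q (q + 1)) (K.homologyπ (q + 1))
          (K.toCycles_comp_homologyπ q (q + 1))).map Φ ⟶ (bdrySeq K q).map Φ :=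
        { τ₁ := Φ.map (cokernel.π (K.iCycles q))
          τ₂ := 𝟙 _
          τ₃ := 𝟙 _
          comm₁₂ := by
            show Φ.map (cokernel.π (K.iCycles q)) ≫ Φ.map (toNextCyc K q) = Φ.map (K.toCycles q (q + 1)) ≫ 𝟙 _
            rw [Category.comp_id, ← Φ.map_comp]
            exact congrArg Φ.map (cokernel.π_desc _ _ _)
          comm₂₃ := by
            show 𝟙 _ ≫ Φ.map (K.homologyπ (q + 1)) = Φ.map (K.homologyπ (q + 1)) ≫ 𝟙 _
            rw [Category.id_comp, Category.comp_id] }
      haveI : Epi φ.τ₁ := he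
      haveI : IsIso φ.τ₂ := inferInstanceAs (IsIso (𝟙 _))
      haveI : Mono φ.τ₃ := inferInstanceAs (Mono (𝟙 _))
      exact (ShortComplex.exact_iff_of_epi_of_isIso_of_mono φ).2 h1.exact
    haveI : Epi (Φ.map (K.homologyπ (q + 1))) := h1.epi_g
    have hs : L.f' = eqToHom (congrArg K.X (CochainComplex.prev_nat_succ q)) ≫ K.toCycles q (q + 1) := by
      rw [← cancel_mono L.i, L.f'_i]
      refine Eq.trans ?_ (Category.assoc _ _ _).symm
      refine Eq.trans ?_ (congrArg (eqToHom _ ≫ ·) (K.toCycles_i q (q + 1)).symm)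
      exact (K.eqToHom_comp_d (show (ComplexShape.up ℕ).Rel ((ComplexShape.up ℕ).prev (q + 1)) (q + 1) from by
        rw [CochainComplex.prev_nat_succ]; rfl) (rfl : (ComplexShape.up ℕ).Rel q (q + 1))).symm
    refine preservesColimit_of_preserves_colimit_cocone L.hπ' ((isColimitMapCoconeCoforkEquiv Φ _).symm ?_)
    let T := (ShortComplex.mk (K.toCycles q (q + 1)) (K.homologyπ (q + 1))
        (K.toCycles_comp_homologyπ q (q + 1))).map Φ
    haveI : Epi T.g := ‹Epi (Φ.map (K.homologyπ (q + 1)))›
    have hT := h0.gIsCokernel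
    exact Cofork.IsColimit.mk _
      (fun s => (hT.desc (CokernelCofork.ofπ s.π (by
        have hg0 : Φ.map L.f' ≫ s.π = 0 :=
          s.condition.trans ((congrArg (· ≫ s.π) (Φ.map_zero _ _)).trans zero_comp)
        have hg' := (congrArg (fun φ => Φ.map φ ≫ s.π) hs).symm.trans hg0
        refine (cancel_epi (Φ.map (eqToHom (congrArg K.X (CochainComplex.prev_nat_succ q))))).1 ?_
        refine Eq.trans ?_ (hg'.trans comp_zero.symm)
        exact ((congrArg (· ≫ s.π) (Φ.map_comp _ _)).trans (Category.assoc _ _ _)).symm)) : Φ.obj (K.homology (q + 1)) ⟶ s.pt))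
      (fun s => hT.fac (CokernelCofork.ofπ s.π _) WalkingParallelPair.one)
      (fun s m hm => (cancel_epi (Φ.map (K.homologyπ (q + 1)))).1
        (hm.trans (hT.fac (CokernelCofork.ofπ s.π _) WalkingParallelPair.one).symm))

end

end Groth.Agent.ProjSerreLib
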