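import Groth.Agent.ProjSerreLib.GammaExt
import Groth.Agent.ExtShLib.Local
import Groth.Agent.VBLib.Twist
import Groth.Agent.CurveLib.TensorExact
import Groth.Agent.ProjCoh.PSData
import Groth.Agent.ProjTwistLib.Ample
import Groth.Agent.CMRegLib.Seq
import Groth.Agent.S10943

/-!
# Ext sheaves into twists
-/

set_option autoImplicit false
set_option backward.isDefEq.respectTransparency false
set_option linter.style.haveILetI false
set_option maxHeartbeats 400000

universe u

open CategoryTheory CategoryTheory.Limits AlgebraicGeometry TopologicalSpace Opposite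
open Groth.Agent.StalkHomLib Groth.Agent.DCohLib

noncomputable section

namespace Groth.Agent.ProjSerreLib

variable {X : Scheme.{u}}

/-- The internal Hom commutes with tensoring by an invertible module. -/
theorem nonempty_hF_tensR (F : X.Modules) [ModSite.HasSheafHom (O := X.sheaf) F] {L L' : X.Modules}
    (η : CohB1.tensorMod L L' ≅ Coh.structureModule X) :
    Nonempty (CurveLib.tensR L ⋙ hF F ≅ hF F ⋙ CurveLib.tensR L) := by
  let E : X.Modules ≌ X.Modules := CategoryTheory.Equivalence.mk (CurveLib.tensR L') (CurveLib.tensR L)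
    (VBLib.untwist (AmpleLib.comm L' L ≪≫ η)).symm (VBLib.untwist η)
  let adjE : CurveLib.tensR L' ⊣ CurveLib.tensR L := E.toAdjunction
  let adjF : CurveLib.tensR F ⊣ hF F := ModSite.sheafHomAdj (O := X.sheaf) F
  let sw : CurveLib.tensR F ⋙ CurveLib.tensR L' ≅ CurveLib.tensR L' ⋙ CurveLib.tensR F :=
    (ModTensor.tensorAssoc X.sheaf F L' : CurveLib.tensR F ⋙ CurveLib.tensR L' ≅ CurveLib.tensR (CohB1.tensorMod F L')) ≪≫
      (DCoh.tensorBi (X := X)).flip.mapIso (ModTensor.tensComm X.sheaf F L') ≪≫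
      (ModTensor.tensorAssoc X.sheaf L' F : CurveLib.tensR L' ⋙ CurveLib.tensR F ≅ CurveLib.tensR (CohB1.tensorMod L' F)).symm
  exact ⟨(adjF.comp adjE).rightAdjointUniq ((adjE.comp adjF).ofNatIsoLeft sw.symm)⟩

/-- The Ext sheaves commute with tensoring by an invertible module. -/
theorem nonempty_extSh_twist (F : X.Modules) [ModSite.HasSheafHom (O := X.sheaf) F]
    [HasInjectiveResolutions (ModSite.Mod X.sheaf)] {L L' : X.Modules}
    (η : CohB1.tensorMod L L' ≅ Coh.structureModule X) (G : X.Modules) (i : ℕ) :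
    Nonempty (((ModSite.extSh (O := X.sheaf) F i).obj (CohB1.tensorMod G L) : X.Modules) ≅
      CohB1.tensorMod ((ModSite.extSh (O := X.sheaf) F i).obj G) L) := by
  haveI : HasInjectiveResolutions X.Modules := ‹HasInjectiveResolutions (ModSite.Mod X.sheaf)›
  haveI : (hF F).Additive := (ModSite.sheafHomAdj (O := X.sheaf) F).right_adjoint_additive
  haveI : (CurveLib.tensR L).IsEquivalence := VBLib.isEquivalence_tensR η
  obtain ⟨c⟩ := nonempty_hF_tensR F η
  let Φ := CurveLib.tensR L
  let R := injectiveResolution G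
  let R' : InjectiveResolution (Φ.obj G) :=
    { cocomplex := (Φ.mapHomologicalComplex _).obj R.cocomplex
      injective := fun n => by
        haveI := R.injective n
        exact Injective.injective_of_adjoint Φ.asEquivalence.symm.toAdjunction (R.cocomplex.X n)
      ι := (HomologicalComplex.singleMapHomologicalComplex Φ (ComplexShape.up ℕ) 0).inv.app G ≫
        (Φ.mapHomologicalComplex _).map R.ι }
  refine ⟨R'.isoRightDerivedObj (hF F) i ≪≫ ?_ ≪≫ Φ.mapIso (R.isoRightDerivedObj (hF F) i).symm⟩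
  refine (HomologicalComplex.homologyFunctor _ _ i).mapIso
    ((NatIso.mapHomologicalComplex c (ComplexShape.up ℕ)).app R.cocomplex) ≪≫ ?_
  exact ShortComplex.mapHomologyIso ((((hF F).mapHomologicalComplex _).obj R.cocomplex).sc i) Φ

theorem isNoetherian_of_closedImmersion (A : Type u) [CommRing A] [IsNoetherianRing A] (n : ℕ)
    (ι : X ⟶ CohB1.ProjSpace n A) [IsClosedImmersion ι] : IsNoetherian X := by
  have hcov : ⨆ a, Proj.basicOpen (CohB1.polyGrading n A) (MvPolynomial.X a) = ⊤ :=
    Groth.Agent.ProjTwistLib.iSup_basicOpen_of_adjoin (e := fun _ => 1) Groth.Agent.ProjMap.X_mem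
      MvPolynomial.adjoin_range_X
  haveI : CompactSpace (CohB1.ProjSpace n A) :=
    Groth.Agent.ProjTwistLib.compactSpace_of_cover (e := fun _ => 1) Groth.Agent.ProjMap.X_mem (fun _ => one_pos) hcov
  haveI : LocallyOfFiniteType (CohB1.ProjSpace.toSpec n A) := inferInstance
  haveI : IsLocallyNoetherian X :=
    LocallyOfFiniteType.isLocallyNoetherian (ι ≫ CohB1.ProjSpace.toSpec n A)
  haveI : CompactSpace X := QuasiCompact.compactSpace_of_compactSpace ι
  exact ⟨⟩

/-- The Ext sheaves of large twists have no higher cohomology. -/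
theorem exists_acyc_extSh (A : Type u) [CommRing A] [IsNoetherianRing A] (n : ℕ)
    (ι : X ⟶ CohB1.ProjSpace n A) [IsClosedImmersion ι] (F G : X.Modules) (hF : Coh.IsCoh F) (hG : Coh.IsCoh G)
    [ModSite.HasSheafHom (O := X.sheaf) F] [HasInjectiveResolutions (ModSite.Mod X.sheaf)] (i : ℕ) :
    ∃ d₀ : ℕ, ∀ d : ℕ, d₀ ≤ d → ∀ q, q ≤ i → Acyc ((ModSite.extSh (O := X.sheaf) F q).obj
      (CohB1.tensorMod G ((Scheme.Modules.pullback ι).obj (Twist.twistProjSpace n A (d : ℤ)))) : X.Modules) := by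
  haveI := isNoetherian_of_closedImmersion A n ι
  have hgen : Algebra.adjoin A (Set.range fun a => (AmpleEmb.coordForm n A a).1) = ⊤ :=
    MvPolynomial.adjoin_range_X
  have hc : ∀ q, Coh.IsCoh ((ModSite.extSh (O := X.sheaf) F q).obj G : X.Modules) := fun q =>
    S10943.result X F G hF hG q
  have hv : ∀ p q : ℕ, ∃ d₀ : ℤ, ∀ d, d₀ ≤ d → Subsingleton (Coh.HH X
      (ProjCoh.psTwist (CohB1.polyGrading n A) ι ((ModSite.extSh (O := X.sheaf) F q).obj G) d) (p + 1)) := fun p q =>
    ProjCoh.exists_vanishing (CohB1.polyGrading n A) (AmpleEmb.coordForm n A) hgen ι _ (hc q) (p + 1) p.succ_pos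
  choose d₀ hd₀ using hv
  refine ⟨((Finset.range (n + 1) ×ˢ Finset.range (i + 1)).sup fun z => (d₀ z.1 z.2).toNat), fun d hd q hq p => ?_⟩
  obtain ⟨η⟩ : Nonempty (CohB1.tensorMod ((Scheme.Modules.pullback ι).obj (Twist.twistProjSpace n A (d : ℤ)))
      ((Scheme.Modules.pullback ι).obj (Twist.twistProjSpace n A (-(d : ℤ)))) ≅ Coh.structureModule X) := by
    refine ⟨(AmpleLib.pullTensor ι _ _).symm ≪≫ (Scheme.Modules.pullback ι).mapIso
      (ProjTwistLib.mulIso (𝒜 := CohB1.polyGrading n A) (add_neg_cancel (d : ℤ)) ?_ ≪≫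
        (asIso (ProjCoh.unitToTwist (CohB1.polyGrading n A))).symm) ≪≫ ProjCoh.pullUnit ι⟩
    exact ProjTwistLib.hasUnit_one_of_cover (top_le_iff.1 ((AmpleEmb.iSup_stdOpen n A).ge.trans
      (iSup_le fun a => le_iSup_of_le (AmpleEmb.coordForm n A a) le_rfl))) _
  obtain ⟨e⟩ := nonempty_extSh_twist F η G q
  refine @ProjCoh.subsingleton_of_iso _ _ _ e.symm (p + 1) ?_
  by_cases hp : p < n + 1
  · refine hd₀ p q d ((Int.self_le_toNat _).trans (Int.ofNat_le.2 ((Finset.le_sup (f := fun z : ℕ × ℕ => (d₀ z.1 z.2).toNat)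
      (b := (p, q)) ?_).trans hd)))
    simp; omega
  · exact (ProjCoh.psData (CohB1.polyGrading n A) (AmpleEmb.coordForm n A) hgen ι _ (hc q)).subsingleton_HH_of_card_le d p
      (by simp; omega)

end Groth.Agent.ProjSerreLib
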