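import Groth.Agent.ProjSerreLib.AcycCx
import Groth.Agent.StalkHomLib.StalkExt
import Groth.Agent.StalkHomLib.SectHom
import Groth.Agent.SiteBase.FlatCech
import Groth.Agent.SiteBase.ModCoh
import Groth.Agent.BCLib.Gamma
import Groth.Agent.AmpleLib.GenLocus
import Groth.Agent.AssLib.Basic
import Groth.Agent.CMRegLib.Koszul
import Groth.Agent.SerreAff.Basic
import Groth.Prelude.Def_KLin

/-!
# Ext groups as sections of Ext sheaves
-/

set_option autoImplicit false
set_option backward.isDefEq.respectTransparency false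
set_option linter.style.haveILetI false
set_option maxHeartbeats 400000

universe u

open CategoryTheory CategoryTheory.Limits AlgebraicGeometry TopologicalSpace Opposite MonoidalCategory
open Groth.Agent.StalkHomLib Groth.Agent.DCohLib
open scoped TensorProduct

noncomputable section

namespace Groth.Agent.ProjSerreLib

variable {X : Scheme.{u}}

theorem res2 (M : X.Modules) {U V W : X.Opens} (h : V ≤ U) (h' : W ≤ V) (s : Γ(M, U)) :
    M.presheaf.map (homOfLE h').op (M.presheaf.map (homOfLE h).op s) = M.presheaf.map (homOfLE (h'.trans h)).op s := by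
  rw [← ConcreteCategory.comp_apply, ← M.presheaf.map_comp]
  rfl

/-- No higher cohomology. -/
def Acyc (M : X.Modules) : Prop := ∀ p : ℕ, Subsingleton (Coh.HH X M (p + 1))

theorem unitMap_pairS (F : X.Modules) {U : X.Opens} (s : Γ(F, U)) :
    (unitMap F).app U (pairS (Coh.structureModule X) F (1 : Γ(X, U)) s) = s := by
  let adj := PresheafOfModules.sheafificationAdjunction (𝟙 (ModSite.ringSh X.sheaf).obj)
  have h' : ModTensor.shUnit X.sheaf (ModTensor.pre X.sheaf (Coh.structureModule X) ⊗ ModTensor.pre X.sheaf F) ≫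
      (ModTensor.preFunctor X.sheaf).map (unitMap F) = (λ_ (ModTensor.pre X.sheaf F)).hom :=
    (adj.homEquiv_unit _ _ _).symm.trans (Equiv.apply_symm_apply _ _)
  refine (congr(($h').app (op U) ((1 : Γ(X, U)) ⊗ₜ[Γ(X, U)] s))).trans ?_
  show (1 : Γ(X, U)) • s = s
  rw [one_smul]

section HomSect

variable (F : X.Modules) [ModSite.HasSheafHom (O := X.sheaf) F]

/-- A global section of the internal Hom as a map. -/
def toHom {N : X.Modules} (h : Γ((hF F).obj N, ⊤)) : F ⟶ N :=
  ⟨PresheafOfModules.homMk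
    { app := fun U => AddCommGrpCat.ofHom
        { toFun := fun s => evS F N (((hF F).obj N).presheaf.map (homOfLE (le_top : U.unop ≤ ⊤)).op h) s
          map_zero' := map_zero (psi F N U.unop (((hF F).obj N).presheaf.map (homOfLE (le_top : U.unop ≤ ⊤)).op h))
          map_add' := fun a b => evS_add_right F N _ a b }
      naturality := fun U V g => AddCommGrpCat.hom_ext (AddMonoidHom.ext fun s => by
        show evS F N (((hF F).obj N).presheaf.map _ h) (F.presheaf.map g s) =
          N.presheaf.map g (evS F N (((hF F).obj N).presheaf.map _ h) s)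
        have hle : V.unop ≤ U.unop := leOfHom g.unop
        rw [show g = (homOfLE hle).op from Subsingleton.elim _ _]
        refine Eq.trans ?_ (evS_res F N hle _ s).symm
        congr 1
        exact (res2 _ _ _ _).symm) }
    (fun U r s => evS_smul_right F N r _ s)⟩

theorem toHom_app {N : X.Modules} (h : Γ((hF F).obj N, ⊤)) (U : X.Opens) (s : Γ(F, U)) :
    (toHom F h).app U s = evS F N (((hF F).obj N).presheaf.map (homOfLE (le_top : U ≤ ⊤)).op h) s := rfl

theorem toHom_injective [Coh.IsQCoh F] (N : X.Modules) : Function.Injective (toHom F (N := N)) := by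
  intro h h' e
  rw [← sub_eq_zero]
  refine AssLib.eq_zero_of_germ _ _ fun x _ => ?_
  obtain ⟨W, hW, hx, -⟩ := exists_isAffineOpen_mem_and_subset (X := X) (x := x) (U := ⊤) trivial
  have e1 : ((hF F).obj N).presheaf.map (homOfLE (le_top : W ≤ ⊤)).op (h - h') = 0 := by
    rw [map_sub, sub_eq_zero]
    refine psi_injective F N hW (LinearMap.ext fun s => ?_)
    exact congr(($e).app W s)
  rw [← TopCat.Presheaf.germ_res_apply ((hF F).obj N).presheaf (homOfLE (le_top : W ≤ ⊤)) x hx, e1, map_zero]

theorem toHom_surjective (N : X.Modules) : Function.Surjective (toHom F (N := N)) := by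
  intro φ
  let adj := ModSite.sheafHomAdj (O := X.sheaf) F
  let a : Coh.structureModule X ⟶ (hF F).obj N := adj.homEquiv _ _ (unitMap F ≫ φ)
  refine ⟨a.app ⊤ (1 : Γ(X, ⊤)), Scheme.Modules.hom_ext _ _ fun U => AddCommGrpCat.hom_ext (AddMonoidHom.ext fun s => ?_)⟩
  show (toHom F (a.app ⊤ (1 : Γ(X, ⊤)))).app U s = φ.app U s
  refine (congrArg (fun z => evS F N z s) (app_natural a (le_top : U ≤ ⊤) (1 : Γ(X, ⊤))).symm).trans ?_
  refine (congrArg (fun z => evS F N (a.app U z) s)
    (show (Coh.structureModule X).presheaf.map (homOfLE (le_top : U ≤ ⊤)).op (1 : Γ(X, ⊤)) = (1 : Γ(X, U)) from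
      map_one (X.presheaf.map (homOfLE (le_top : U ≤ ⊤)).op).hom)).trans ?_
  show (ev F N).app U (pairS _ F (a.app U (1 : Γ(X, U))) s) = _
  rw [← tensorBi_app_pairS_left a]
  have h : ((DCoh.tensorBi (X := X)).map a).app F ≫ ev F N = unitMap F ≫ φ :=
    (adj.homEquiv_counit _ _ a).symm.trans ((adj.homEquiv _ _).symm_apply_apply _)
  refine (congr(($h).app U (pairS (Coh.structureModule X) F (1 : Γ(X, U)) s))).trans ?_
  exact congrArg (φ.app U) (unitMap_pairS F s)

theorem toHom_natural {N N' : X.Modules} (g : N ⟶ N') (h : Γ((hF F).obj N, ⊤)) :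
    toHom F (((hF F).map g).app ⊤ h) = toHom F h ≫ g := by
  refine Scheme.Modules.hom_ext _ _ fun U => AddCommGrpCat.hom_ext (AddMonoidHom.ext fun s => ?_)
  show (toHom F (((hF F).map g).app ⊤ h)).app U s = g.app U ((toHom F h).app U s)
  rw [toHom_app, toHom_app, ← app_natural ((hF F).map g) (le_top : U ≤ ⊤) h]
  show (ev F N').app U (pairS _ F _ s) = _
  rw [← tensorBi_app_pairS_left ((hF F).map g)]
  have h2 : ((DCoh.tensorBi (X := X)).map ((hF F).map g)).app F ≫ ev F N' = ev F N ≫ g :=
    (ModSite.sheafHomAdj (O := X.sheaf) F).counit.naturality g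
  exact congr(($h2).app U (pairS _ F (((hF F).obj N).presheaf.map (homOfLE (le_top : U ≤ ⊤)).op h) s))

end HomSect

variable (A : Type u) [CommRing A] [X.Over (Spec (CommRingCat.of A))]

/-- Global sections of the internal Hom, linearly. -/
def homSectEquiv (F : X.Modules) [ModSite.HasSheafHom (O := X.sheaf) F] [Coh.IsQCoh F] (N : X.Modules) :
    (CohIII.globalSectionsA A).obj ((hF F).obj N) ≃ₗ[A] (F ⟶ N) :=
  LinearEquiv.ofBijective (M := (CohIII.globalSectionsA A).obj ((hF F).obj N)) (M₂ := F ⟶ N)
    { toFun := fun h => toHom F (show Γ((hF F).obj N, ⊤) from h)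
      map_add' := fun a b => Scheme.Modules.hom_ext _ _ fun U => AddCommGrpCat.hom_ext (AddMonoidHom.ext fun s => by
        show evS F N (((hF F).obj N).presheaf.map _ (_ + _)) s = evS F N _ s + evS F N _ s
        rw [map_add, evS_add_left])
      map_smul' := fun r h => Scheme.Modules.hom_ext _ _ fun U => AddCommGrpCat.hom_ext (AddMonoidHom.ext fun s => by
        show evS F N (((hF F).obj N).presheaf.map _ ((show Γ(X, ⊤) from Coh.toGlobal (X ↘ Spec (CommRingCat.of A)) r) •
          (show Γ((hF F).obj N, ⊤) from h))) s = (r • toHom F (show Γ((hF F).obj N, ⊤) from h)).app U s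
        rw [Scheme.Modules.map_smul, evS_smul_left, KLin.smul_app_apply]
        rfl) }
    ⟨toHom_injective F N, toHom_surjective F N⟩

instance preservesFiniteLimits_globalSectionsA :
    PreservesFiniteLimits (CohIII.globalSectionsA A : X.Modules ⥤ ModuleCat.{u} A) := by
  haveI : PreservesLimitsOfSize.{0, 0} (moduleSpecΓFunctor (R := CommRingCat.of A)) :=
    (tilde.adjunction (R := CommRingCat.of A)).rightAdjoint_preservesLimits
  haveI : PreservesLimitsOfSize.{0, 0} (Scheme.Modules.pushforward (X ↘ Spec (CommRingCat.of A))) :=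
    (Scheme.Modules.pullbackPushforwardAdjunction _).rightAdjoint_preservesLimits
  exact comp_preservesFiniteLimits _ _

instance additive_globalSectionsA : (CohIII.globalSectionsA A : X.Modules ⥤ ModuleCat.{u} A).Additive :=
  Functor.additive_of_preserves_binary_products _

theorem acyclicClass : AcyclicClass (CohIII.globalSectionsA A : X.Modules ⥤ ModuleCat.{u} A) Acyc where
  iso e h p := haveI := h p; ProjCoh.subsingleton_of_iso e (p + 1)
  mid hS h1 h3 p := SerreAff.subsingleton_mid hS (p + 1) (h1 p) (h3 p)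
  right hS h1 h2 p := CMRegLib.subsingleton_right hS (p + 1) (h2 p) (h1 (p + 1))
  epi {S} hS h1 := by
    refine (ModuleCat.epi_iff_surjective _).2 fun c => ?_
    let c' : Γ(S.X₃, ⊤) := c
    obtain ⟨y, hy⟩ : ∃ y : Coh.HH X S.X₂ 0,
        Sheaf.H.map ((SheafOfModules.toSheaf X.ringCatSheaf).map S.g) 0 y = RpushLib.h0Γ S.X₃ c' := by
      haveI : Subsingleton (CohBase.HU (⊤ : X.Opens) (S.map (QCohLib.toAbF X)).X₁ 1) :=
        SerreAff.subsingleton_HU_top (h1 0)
      obtain ⟨z, hz⟩ := (CohBase.hδ_eq_zero_iff (QCohLib.toAb_shortExact hS) ⊤ 0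
        ((CohBase.HHEquiv S.X₃ 0) (RpushLib.h0Γ S.X₃ c'))).1 (Subsingleton.elim _ _)
      refine ⟨(CohBase.HHEquiv S.X₂ 0).symm z, (CohBase.HHEquiv S.X₃ 0).injective ?_⟩
      refine (CohBase.HEquiv_map ((SheafOfModules.toSheaf X.ringCatSheaf).map S.g) 0 _).trans ?_
      refine Eq.trans ?_ hz
      exact congrArg _ ((CohBase.HHEquiv S.X₂ 0).apply_symm_apply z)
    exact ⟨(RpushLib.h0Γ S.X₂).symm y, (RpushLib.h0Γ S.X₃).injective
      ((BCLib.h0Γ_natural S.g _).trans (((congrArg _ ((RpushLib.h0Γ S.X₂).apply_symm_apply y))).trans hy))⟩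

variable [HasExt.{u} X.Modules]

/-- Ext groups are the sections of the Ext sheaves when those are acyclic. -/
theorem nonempty_ext_sections (F G : X.Modules) [ModSite.HasSheafHom (O := X.sheaf) F] [Coh.IsQCoh F]
    [HasInjectiveResolutions (ModSite.Mod X.sheaf)] (i : ℕ)
    (h : ∀ q, q ≤ i → Acyc ((ModSite.extSh (O := X.sheaf) F q).obj G : X.Modules)) :
    Nonempty (Abelian.Ext.{u} F G i ≃ₗ[A] Coh.HH X ((ModSite.extSh (O := X.sheaf) F i).obj G) 0) := by
  haveI : HasInjectiveResolutions X.Modules := ‹HasInjectiveResolutions (ModSite.Mod X.sheaf)›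
  haveI : (hF F).Additive := (ModSite.sheafHomAdj (O := X.sheaf) F).right_adjoint_additive
  let R := injectiveResolution G
  let K : CochainComplex X.Modules ℕ := ((hF F).mapHomologicalComplex _).obj R.cocomplex
  have hK : ∀ q, Acyc (K.X q) := fun q p => by
    haveI : Injective (R.cocomplex.X q : ModSite.Mod X.sheaf) := R.injective q
    exact SiteBase.subsingleton_H_of_isTotallyAcyclic
      (SiteBase.isTotallyAcyclic_sheafHom (O := X.sheaf) F (R.cocomplex.X q)) p
  have hq : ∀ q, ((ModSite.extSh (O := X.sheaf) F q).obj G : X.Modules) ≅ K.homology q := fun q =>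
    R.isoRightDerivedObj (hF F) q
  obtain ⟨e⟩ := nonempty_homology_map_iso (acyclicClass A) hK i fun q hqi => (acyclicClass A).iso (hq q) (h q hqi)
  let γ : hF F ⋙ CohIII.globalSectionsA A ≅ (linearCoyoneda A X.Modules).obj (op F) :=
    NatIso.ofComponents (fun N => (homSectEquiv A F N).toModuleIso) fun {N N'} g =>
      ModuleCat.hom_ext (LinearMap.ext fun s => toHom_natural F g s)
  obtain ⟨l⟩ := StalkHomLib.nonempty_homology_linCx_iso A F R i
  let c : ((((CohIII.globalSectionsA A).mapHomologicalComplex (ComplexShape.up ℕ)).obj K).homology i) ≅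
      (linCx A F R).homology i :=
    (HomologicalComplex.homologyFunctor _ _ i).mapIso
      ((NatIso.mapHomologicalComplex γ (ComplexShape.up ℕ)).app R.cocomplex)
  exact ⟨((l.symm ≪≫ c.symm ≪≫ e ≪≫ (CohIII.globalSectionsA A).mapIso (hq i).symm).toLinearEquiv).trans
    (BCLib.gammaH0 _)⟩

end Groth.Agent.ProjSerreLib
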