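import Groth.Agent.CurveLib.Euler
import Groth.Agent.QCohLib.Coherent
import Groth.Agent.QCohLib.Push
import Groth.Agent.PullbackMod.SuppClosed
import Groth.Agent.S1575
import Groth.Agent.DCohLib.SuppOpen
import Groth.Agent.H1ZeroLib.Relative
import Groth.Agent.CMRegLib.OnX

/-!
# Sections supported away from the generic points

If every map from a coherent module supported away from the generic points to `ω` is zero, then stalk
elements of `ω` are determined at the generic points.
-/

set_option autoImplicit false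
set_option backward.isDefEq.respectTransparency false
set_option linter.style.haveILetI false
set_option maxHeartbeats 400000

universe u

open CategoryTheory CategoryTheory.Limits AlgebraicGeometry TopologicalSpace Opposite Topology
open Groth.Agent.PullbackMod Groth.Agent.DCohLib

noncomputable section

namespace Groth.Agent.ProjSerreLib

/-- The maximal points. -/
def IsMax' {X : Scheme.{u}} (η : X) : Prop := ∀ w : X, w ⤳ η → w = η

theorem isMax'_of_component {X : Scheme.{u}} {η : X} (h : closure ({η} : Set X) ∈ irreducibleComponents X) :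
    IsMax' η := fun w hw => by
  have h1 : closure ({η} : Set X) ⊆ closure {w} :=
    closure_minimal (Set.singleton_subset_iff.2 hw.mem_closure) isClosed_closure
  have h2 : closure ({w} : Set X) ⊆ closure {η} := h.2 isIrreducible_singleton.closure h1
  exact (hw.antisymm (specializes_iff_closure_subset.2 h2)).eq

theorem exists_max_generization {X : Scheme.{u}} (x : X) : ∃ η : X, η ⤳ x ∧ closure ({η} : Set X) ∈ irreducibleComponents X := by
  obtain ⟨η, hη⟩ := QuasiSober.sober (isIrreducible_irreducibleComponent (x := x)) isClosed_irreducibleComponent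
  refine ⟨η, hη.specializes mem_irreducibleComponent, ?_⟩
  rw [hη.def]
  exact irreducibleComponent_mem_irreducibleComponents x

/-- A closed subset without maximal points is smaller. -/
theorem topologicalKrullDim_lt_of_no_max {X : Scheme.{u}} {C : Set X} (hC : IsClosed C)
    (h : ∀ η : X, closure ({η} : Set X) ∈ irreducibleComponents X → η ∉ C) {d : ℕ}
    (hX : topologicalKrullDim X ≤ ((d + 1 : ℕ) : WithBot ℕ∞)) : topologicalKrullDim C ≤ (d : WithBot ℕ∞) := by
  have hι : IsClosedEmbedding (Subtype.val : C → X) := hC.isClosedEmbedding_subtypeVal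
  refine iSup_le fun s => ?_
  let s' : LTSeries (IrreducibleCloseds X) := s.map (IrreducibleCloseds.map (Subtype.val : C → X) continuous_subtype_val)
    (IrreducibleCloseds.map_strictMono_of_isInducing hι.isInducing)
  obtain ⟨w, hw⟩ : ((RelSeries.last s : IrreducibleCloseds C) : Set C).Nonempty := (RelSeries.last s).isIrreducible.nonempty
  have hirr : IsIrreducible ((RelSeries.last s' : IrreducibleCloseds X) : Set X) := (RelSeries.last s').isIrreducible
  have hsub : ((RelSeries.last s' : IrreducibleCloseds X) : Set X) ⊆ C := by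
    rw [LTSeries.last_map]
    refine closure_minimal ?_ hC
    rintro _ ⟨v, -, rfl⟩
    exact v.2
  obtain ⟨Z, hZ, hsZ⟩ := exists_mem_irreducibleComponents_subset_of_isIrreducible _ hirr
  obtain ⟨η, hη⟩ := QuasiSober.sober hZ.1 (isClosed_of_mem_irreducibleComponents Z hZ)
  let top : IrreducibleCloseds X := ⟨Z, hZ.1, isClosed_of_mem_irreducibleComponents Z hZ⟩
  have hlast : RelSeries.last s' < top := by
    refine lt_of_le_of_ne hsZ fun e => h η (hη.def.symm ▸ hZ) (hsub ?_)
    rw [e]
    exact hη.mem
  have h1 : (((RelSeries.snoc s' top hlast).length : ℕ) : WithBot ℕ∞) ≤ ((d + 1 : ℕ) : WithBot ℕ∞) :=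
    le_trans (Order.LTSeries.length_le_krullDim _) hX
  rw [RelSeries.snoc_length] at h1
  have h2 : s.length + 1 ≤ d + 1 := by
    have : s'.length = s.length := rfl
    rw [this] at h1
    exact_mod_cast h1
  exact_mod_cast (show s.length ≤ d by omega)

variable {X : Scheme.{u}} [AlgebraicGeometry.IsNoetherian X] {ω : X.Modules}

/-- An open containing all maximal points on which a given section vanishes. -/
theorem exists_open_generic {V : X.Opens} (s : Γ(ω, V))
    (hs : ∀ η : X, closure ({η} : Set X) ∈ irreducibleComponents X → ∀ h : η ∈ V, ω.presheaf.germ V η h s = 0) :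
    ∃ U : X.Opens, (∀ η : X, closure ({η} : Set X) ∈ irreducibleComponents X → η ∈ U) ∧
      ω.presheaf.map (homOfLE (inf_le_left : V ⊓ U ≤ V)).op s = 0 := by
  classical
  have key : ∀ η : X, closure ({η} : Set X) ∈ irreducibleComponents X →
      ∃ W : X.Opens, η ∈ W ∧ ∀ z, z ∈ W → ∀ hz : z ∈ V, ω.presheaf.germ V z hz s = 0 := by
    intro η hη
    let others : Set X := ⋃ Z ∈ irreducibleComponents X \ {closure ({η} : Set X)}, Z
    have hcl : IsClosed others :=
      ((TopologicalSpace.NoetherianSpace.finite_irreducibleComponents (α := X)).subset Set.sdiff_subset).isClosed_biUnion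
        fun Z hZ => isClosed_of_mem_irreducibleComponents Z hZ.1
    have hηo : η ∉ others := by
      simp only [others, Set.mem_iUnion]
      rintro ⟨Z, ⟨hZ, hne⟩, hηZ⟩
      have hs1 : closure ({η} : Set X) ⊆ Z :=
        closure_minimal (Set.singleton_subset_iff.2 hηZ) (isClosed_of_mem_irreducibleComponents Z hZ)
      exact hne (subset_antisymm (hη.2 hZ.1 hs1) hs1)
    have hsp : ∀ z, z ∉ others → η ⤳ z := fun z hz => by
      obtain ⟨g, hg, hgc⟩ := exists_max_generization z
      by_contra hne
      refine hz (Set.mem_biUnion ⟨hgc, fun e => hne ?_⟩ hg.mem_closure)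
      exact specializes_iff_mem_closure.2 ((e : closure ({g} : Set X) = closure {η}) ▸ hg.mem_closure)
    by_cases hV : η ∈ V
    · obtain ⟨W₀, hW₀, i₁, i₂, e⟩ := ω.presheaf.germ_eq η hV hV s 0 ((hs η hη hV).trans (map_zero _).symm)
      refine ⟨⟨others ᶜ, hcl.isOpen_compl⟩ ⊓ W₀, ⟨hηo, hW₀⟩, fun z hz hzV => ?_⟩
      rw [← TopCat.Presheaf.germ_res_apply ω.presheaf i₁ z hz.2 s, e, map_zero, map_zero]
    · exact ⟨⟨others ᶜ, hcl.isOpen_compl⟩, hηo, fun z hz hzV => absurd ((hsp z hz).mem_open V.2 hzV) hV⟩
  choose W hW hW' using key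
  refine ⟨⨆ η : {η : X // closure ({η} : Set X) ∈ irreducibleComponents X}, W η.1 η.2,
    fun η hη => Opens.mem_iSup.2 ⟨⟨η, hη⟩, hW η hη⟩, ?_⟩
  refine TopCat.Presheaf.section_ext ⟨ω.presheaf, ω.isSheaf⟩ _ _ _ fun z hz => ?_
  obtain ⟨⟨η, hη⟩, hzW⟩ := Opens.mem_iSup.1 hz.2
  show ω.presheaf.germ _ z hz _ = ω.presheaf.germ _ z hz 0
  rw [TopCat.Presheaf.germ_res_apply, map_zero]
  exact hW' η hη z hzW hz.1

/-- Stalk elements vanishing at the maximal points are zero. -/
theorem eq_zero_of_generic (hω : Coh.IsCoh ω)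
    (hlow : ∀ (T : X.Modules) (φ : T ⟶ ω), Coh.IsCoh T →
      (∀ η : X, closure ({η} : Set X) ∈ irreducibleComponents X → η ∉ CohB1.support T) → φ = 0)
    {x : X} {V : X.Opens} (hx : x ∈ V) (s : Γ(ω, V))
    (hs : ∀ η : X, closure ({η} : Set X) ∈ irreducibleComponents X → ∀ h : η ∈ V, ω.presheaf.germ V η h s = 0) :
    ω.presheaf.germ V x hx s = 0 := by
  haveI := hω.1
  obtain ⟨U, hU, hres⟩ := exists_open_generic s hs
  let u := (Scheme.Modules.restrictAdjunction U.ι).unit.app ω
  haveI : Coh.IsQCoh ((Scheme.Modules.restrictFunctor U.ι).obj ω) := inferInstance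
  haveI : Coh.IsQCoh ((Scheme.Modules.pushforward U.ι).obj ((Scheme.Modules.restrictFunctor U.ι).obj ω)) :=
    QCohLib.isQCoh_pushforward _ U.ι
  haveI : Coh.IsQCoh ((𝟭 X.Modules).obj ω) := hω.1
  haveI : Coh.IsQCoh ((Scheme.Modules.restrictFunctor U.ι ⋙ Scheme.Modules.pushforward U.ι).obj ω) := by
    assumption
  have hu : u.app V s = 0 := by
    have hle : U.ι ''ᵁ (U.ι ⁻¹ᵁ V) ≤ V ⊓ U := le_inf (U.ι.image_preimage_le V) (U.ι_image_le _)
    refine Eq.trans ?_ ((congrArg (fun z => ω.presheaf.map (homOfLE hle).op z) hres).trans (map_zero _))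
    rw [Scheme.Modules.restrictAdjunction_unit_app_app]
    exact (ConcreteCategory.congr_hom (ω.presheaf.map_comp
      (homOfLE (inf_le_left : V ⊓ U ≤ V)).op (homOfLE hle).op) s)
  obtain ⟨t, ht⟩ := QCohLib.kernel_app_exact u V s hu
  let T : X.Modules := kernel u
  haveI : Coh.IsQCoh T := H1ZeroLib.isQCoh_kernel u
  have hT : Coh.IsCoh T := QCohLib.isCoh_of_mono (M := ω) (kernel.ι u) hω inferInstance
  have hsupp : ∀ η : X, closure ({η} : Set X) ∈ irreducibleComponents X → η ∉ CohB1.support T := fun η hη h => by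
    refine h ⟨fun a b => ?_⟩
    have hinj : Function.Injective (stalkLin (kernel.ι u) η) := (mono_iff_stalk (kernel.ι u)).1 inferInstance η
    have hbij := S1575.unit_stalk_bijective U.ι ω (x := η) (by rw [Scheme.Opens.opensRange_ι]; exact hU η hη)
    refine hinj (hbij.1 ?_)
    show (stalkLin u η ∘ₗ stalkLin (kernel.ι u) η) a = (stalkLin u η ∘ₗ stalkLin (kernel.ι u) η) b
    rw [← stalkLin_comp, kernel.condition, (eq_zero_iff_stalk (0 : T ⟶ _)).1 rfl η]
    rfl
  have h0 := hlow T (kernel.ι u) hT hsupp
  rw [← ht]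
  refine (stalkLin_germ (kernel.ι u) x hx t).symm.trans ?_
  rw [(eq_zero_iff_stalk _).1 h0 x]
  rfl

/-- Coherent modules supported away from the maximal points have no top cohomology. -/
theorem subsingleton_HH_top {T : X.Modules} (hT : Coh.IsCoh T)
    (h : ∀ η : X, closure ({η} : Set X) ∈ irreducibleComponents X → η ∉ CohB1.support T) {r : ℕ}
    (hX : topologicalKrullDim X ≤ (r : WithBot ℕ∞)) : Subsingleton (Coh.HH X T r) := by
  rcases Nat.eq_zero_or_pos r with rfl | hr
  · have hT0 : IsZero T := isZero_of_stalks fun x => by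
      by_contra hx
      obtain ⟨η, hη, hc⟩ := exists_max_generization x
      refine h η hc ?_
      have hd : x = η := by
        by_contra hne
        let a : IrreducibleCloseds X := ⟨closure {x}, isIrreducible_singleton.closure, isClosed_closure⟩
        let b : IrreducibleCloseds X := ⟨closure {η}, isIrreducible_singleton.closure, isClosed_closure⟩
        have hab : a < b := by
          refine lt_of_le_of_ne (specializes_iff_closure_subset.1 hη) fun e => hne ?_
          exact ((specializes_iff_closure_subset.2 (congrArg IrreducibleCloseds.carrier e).ge).antisymm hη).eq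
        have h1 : (((RelSeries.singleton _ a).snoc b hab).length : WithBot ℕ∞) ≤ ((0 : ℕ) : WithBot ℕ∞) :=
          le_trans (Order.LTSeries.length_le_krullDim _) hX
        have h2 : ((RelSeries.singleton {(p : IrreducibleCloseds X × IrreducibleCloseds X) | p.1 < p.2} a).snoc b hab).length ≤ 0 := by
          exact_mod_cast h1
        simp at h2
      exact hd ▸ hx
    exact CMRegLib.subsingleton_zero hT0 0
  · obtain ⟨d, rfl⟩ : ∃ d, r = d + 1 := ⟨r - 1, by omega⟩
    exact CurveLib.subsingleton_HH_of_support T (isClosed_support_of_isFT hT.2) subset_rfl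
      (topologicalKrullDim_lt_of_no_max (isClosed_support_of_isFT hT.2) h hX) (Nat.lt_succ_self d)

end Groth.Agent.ProjSerreLib
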