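import Groth.Agent.ProjSerreLib.Top
import Groth.Agent.HorrocksPnLib.Main

/-!
# The zero-dimensional case
-/

set_option autoImplicit false
set_option backward.isDefEq.respectTransparency false
set_option linter.style.haveILetI false
set_option maxHeartbeats 400000

universe u

open CategoryTheory CategoryTheory.Limits AlgebraicGeometry TopologicalSpace Opposite
open Groth.Agent.PullbackMod Groth.Agent.DCohLib

noncomputable section

namespace Groth.Agent.ProjSerreLib

/-- The class of the unit section. -/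
def oneCl (X : Scheme.{u}) : Coh.HH X (Coh.structureModule X) 0 :=
  RpushLib.h0Γ (Coh.structureModule X) (1 : Γ(X, ⊤))

theorem secHom_bij (k : Type u) [Field k] {X : Scheme.{u}} [X.Over (Spec (CommRingCat.of k))] (M : X.Modules) :
    Function.Bijective fun g : Coh.structureModule X ⟶ M => CurveLib.hMap (k := k) g 0 (oneCl X) := by
  have key : ∀ g : Coh.structureModule X ⟶ M,
      CurveLib.hMap (k := k) g 0 (oneCl X) = RpushLib.h0Γ M (AmpleLib.sec g) :=
    fun g => (BCLib.h0Γ_natural g _).symm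
  refine ⟨fun a b h => ?_, fun c => ⟨DCohLib.secHom M ((RpushLib.h0Γ M).symm c), ?_⟩⟩
  · rw [← AmpleLib.secHom_sec a, ← AmpleLib.secHom_sec b]
    exact congrArg _ ((RpushLib.h0Γ M).injective ((key a).symm.trans (h.trans (key b))))
  · show CurveLib.hMap (k := k) _ 0 (oneCl X) = c
    rw [key, AmpleLib.sec_secHom, AddEquiv.apply_symm_apply]

theorem exists_free_iso_point {k : Type u} [Field k] {F : (CohB1.ProjSpace 0 k).Modules} (hF : Coh.IsCoh F) :
    ∃ r : ℕ, Nonempty (F ≅ FlatMod.freeMod (CohB1.ProjSpace 0 k) r) := by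
  haveI := CMRegLib.isNoetherian_projSpace (k := k) (n := 0)
  haveI := HorrocksPnLib.subsingleton_PS_zero (k := k)
  haveI := hF.1
  haveI := VBLib.finite_generic hF
  haveI := VBLib.free_generic F (VBLib.finite_generic hF)
  refine ⟨_, HorrocksPnLib.nonempty_iso_free_of_subsingleton (genericPoint (CohB1.ProjSpace 0 k))
    ((isFinLocFreeOfRank_iff_freeAt F (QCohLib.isFP_of_isCoh F hF) (Module.finrank ((CohB1.ProjSpace 0 k).presheaf.stalk (genericPoint (CohB1.ProjSpace 0 k))) (F.presheaf.stalk (genericPoint (CohB1.ProjSpace 0 k))))).2 fun x => ?_)⟩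
  obtain rfl := Subsingleton.elim (genericPoint (CohB1.ProjSpace 0 k)) x
  exact ⟨(Module.finBasis _ _).equivFun⟩

theorem existsUnique_point {k : Type u} [Field k]
    (v : Coh.HH (CohB1.ProjSpace 0 k) (Twist.twistProjSpace 0 k (-(((0 : ℕ) : ℤ) + 1))) 0) (hv0 : v ≠ 0)
    (hv : ∀ w, ∃ c : k, c • v = w) {F : (CohB1.ProjSpace 0 k).Modules} (hF : Coh.IsCoh F)
    (e : k ≃ₗ[k] Coh.HH (CohB1.ProjSpace 0 k) (Twist.twistProjSpace 0 k (-(((0 : ℕ) : ℤ) + 1))) 0)
    (ψ : Coh.HH (CohB1.ProjSpace 0 k) F 0 →ₗ[k] k) :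
    ∃! φ : F ⟶ Twist.twistProjSpace 0 k (-(((0 : ℕ) : ℤ) + 1)), ∀ x,
      ψ x = e.symm.toLinearMap (Sheaf.H.map ((SheafOfModules.toSheaf (CohB1.ProjSpace 0 k).ringCatSheaf).map φ) 0 x) := by
  classical
  haveI := CMRegLib.isNoetherian_projSpace (k := k) (n := 0)
  let L := Twist.twistProjSpace 0 k (-(((0 : ℕ) : ℤ) + 1))
  let O' := Coh.structureModule (CohB1.ProjSpace 0 k)
  obtain ⟨r, ⟨i⟩⟩ := exists_free_iso_point hF
  haveI := HorrocksPnLib.subsingleton_PS_zero (k := k)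
  obtain ⟨iL⟩ := HorrocksPnLib.nonempty_iso_free_of_subsingleton (Classical.arbitrary (CohB1.ProjSpace 0 k))
    (CurveLib.isFinLocFreeOfRank_one (CMRegLib.isInvertible_O (k := k) (n := 0) (-(((0 : ℕ) : ℤ) + 1))))
  let j₁ : O' ≅ L := (coproductUniqueIso fun _ : Fin 1 => O').symm ≪≫ iL.symm
  have hone : ∀ w : Coh.HH (CohB1.ProjSpace 0 k) O' 0, ∃ c : k, c • oneCl _ = w := fun w => by
    have h1 : Module.finrank k (Coh.HH (CohB1.ProjSpace 0 k) O' 0) = 1 := by
      rw [CurveLib.hMap_bijective_finrank (k := k) j₁ 0]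
      exact finrank_eq_one v hv0 hv
    refine (finrank_eq_one_iff_of_nonzero' (oneCl _) fun h0 => hv0 ?_).1 h1 w
    obtain ⟨g, hg⟩ := (secHom_bij k L).2 v
    exact hg.symm.trans (by simp only [h0, map_zero])
  let z : Fin r → Coh.HH (CohB1.ProjSpace 0 k) F 0 := fun a =>
    CurveLib.hMap (k := k) (Sigma.ι (fun _ : Fin r => O') a ≫ i.inv) 0 (oneCl _)
  have hspan : ∀ x, ∃ d : Fin r → k, x = ∑ a, d a • z a := fun x => by
    let p : Fin r → ((∐ fun _ : Fin r => O') ⟶ O') := fun a => Sigma.desc fun b => if b = a then 𝟙 _ else 0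
    have htot : ∑ a, (i.hom ≫ p a) ≫ Sigma.ι (fun _ : Fin r => O') a ≫ i.inv = 𝟙 F := by
      have ht : ∑ a, p a ≫ Sigma.ι (fun _ : Fin r => O') a = 𝟙 _ := by
        refine Sigma.hom_ext _ _ fun b => ?_
        simp [p, Preadditive.comp_sum, ite_comp, Finset.sum_ite_eq]
      calc ∑ a, (i.hom ≫ p a) ≫ Sigma.ι (fun _ : Fin r => O') a ≫ i.inv
          = i.hom ≫ (∑ a, p a ≫ Sigma.ι (fun _ : Fin r => O') a) ≫ i.inv := by
            simp [Preadditive.comp_sum, Preadditive.sum_comp]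
        _ = 𝟙 F := by rw [ht, Category.id_comp, Iso.hom_inv_id]
    choose d hd using fun a => hone (CurveLib.hMap (k := k) (i.hom ≫ p a) 0 x)
    refine ⟨d, ?_⟩
    conv_lhs => rw [← HorrocksPnLib.hMap_id k F 0 x, ← htot, HorrocksPnLib.hMap_sum]
    refine Finset.sum_congr rfl fun a _ => ?_
    rw [HorrocksPnLib.hMap_comp, ← hd a, map_smul]
  choose g hg using fun a => (secHom_bij k L).2 (e (ψ (z a)))
  refine ⟨i.hom ≫ Sigma.desc g, fun x => ?_, fun φ hφ => ?_⟩
  · show ψ x = e.symm (CurveLib.hMap (k := k) (i.hom ≫ Sigma.desc g) 0 x)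
    obtain ⟨d, rfl⟩ := hspan x
    simp only [map_sum, map_smul, z]
    refine Finset.sum_congr rfl fun a _ => congrArg (d a • ·) ?_
    rw [← HorrocksPnLib.hMap_comp, Category.assoc, i.inv_hom_id_assoc, Sigma.ι_desc]
    exact (e.symm_apply_apply _).symm.trans (congrArg e.symm (hg a).symm)
  · rw [← cancel_epi i.inv, i.inv_hom_id_assoc]
    refine Sigma.hom_ext _ _ fun a => ?_
    rw [Sigma.ι_desc]
    refine (secHom_bij k L).1 ((Eq.trans ?_ (congrArg e (hφ (z a)).symm)).trans (hg a).symm)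
    refine Eq.trans ?_ (e.apply_symm_apply _).symm
    show CurveLib.hMap (k := k) (Sigma.ι (fun _ : Fin r => O') a ≫ i.inv ≫ φ) 0 (oneCl _) =
      CurveLib.hMap (k := k) φ 0 (z a)
    rw [← Category.assoc, HorrocksPnLib.hMap_comp]

end Groth.Agent.ProjSerreLib
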