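import Groth.Agent.ProjSerreLib.Ext
import Groth.Agent.S11314
import Groth.Agent.RpushLib.ToAb
import Mathlib.Algebra.Homology.DerivedCategory.Ext.Map

/-!
# The duality pairing on projective space
-/

set_option autoImplicit false
set_option backward.isDefEq.respectTransparency false
set_option linter.style.haveILetI false
set_option maxHeartbeats 400000

universe u

open CategoryTheory CategoryTheory.Limits AlgebraicGeometry TopologicalSpace Opposite
open Groth.Agent.PullbackMod Groth.Agent.DCohLib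

noncomputable section

namespace Groth.Agent.ProjSerreLib

variable {k : Type u} [Field k] {n : ℕ} {X : Scheme.{u}} [X.Over (Spec (CommRingCat.of k))]
  {W : X.Modules}

variable [HasExt.{u} X.Modules]

open Abelian (Ext)

/-- An Ext class as a class between the underlying abelian sheaves. -/
abbrev extAb {G H : X.Modules} {q : ℕ} (x : Ext.{u} G H q) :
    Ext.{u} (Coh.toAb G) (Coh.toAb H) q :=
  x.mapExactFunctor (QCohLib.toAbF X)

/-- The action of an Ext class on cohomology. -/
def act {G H : X.Modules} {q j m : ℕ} (h : j + q = m) (x : Ext.{u} G H q) (a : Coh.HH X G j) :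
    Coh.HH X H m :=
  Ext.comp a (extAb x) h

theorem act_mk₀ {G H : X.Modules} {j : ℕ} (φ : G ⟶ H) (a : Coh.HH X G j) :
    act (Nat.add_zero j) (Ext.mk₀ φ) a = CurveLib.hMap (k := k) φ j a := by
  rw [act, extAb, Ext.mapExactFunctor_mk₀]
  rfl

theorem act_mk₀_comp {G G' H : X.Modules} {q j m : ℕ} (h : j + q = m) (g : G ⟶ G') (x : Ext.{u} G' H q)
    (a : Coh.HH X G j) :
    act h ((Ext.mk₀ g).comp x (zero_add q)) a = act h x (CurveLib.hMap (k := k) g j a) := by
  rw [act, extAb, Ext.mapExactFunctor_comp, Ext.mapExactFunctor_mk₀, ← Ext.comp_assoc_of_second_deg_zero]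
  rfl

theorem act_comp_mk₀ {G H H' : X.Modules} {q j m : ℕ} (h : j + q = m) (g : H ⟶ H') (x : Ext.{u} G H q)
    (a : Coh.HH X G j) :
    act h (x.comp (Ext.mk₀ g) (add_zero q)) a = CurveLib.hMap (k := k) g m (act h x a) := by
  rw [act, extAb, Ext.mapExactFunctor_comp, Ext.mapExactFunctor_mk₀, ← Ext.comp_assoc_of_third_deg_zero]
  rfl

theorem cst_natural_end {G G' : X.Modules} (φ : G ⟶ G') (r : k) : r • φ = φ ≫ (VBLib.cst k G' r : G' ⟶ G') := by
  rw [← VBLib.cst_natural k φ r]
  refine Scheme.Modules.hom_ext _ _ fun U => AddCommGrpCat.hom_ext (AddMonoidHom.ext fun s => ?_)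
  show (r • φ).app U s = φ.app U ((FactorOne.mulEnd G _).app U s)
  rw [KLin.smul_app_apply, FactorOne.mulEnd_app, Scheme.Modules.Hom.app_smul]

theorem smul_id_eq_cst (G : X.Modules) (r : k) : r • 𝟙 G = (VBLib.cst k G r : G ⟶ G) :=
  (cst_natural_end (𝟙 G) r).trans (Category.id_comp _)

theorem act_smul_left {G H : X.Modules} {q j m : ℕ} (h : j + q = m) (x : Ext.{u} G H q) (r : k)
    (a : Coh.HH X G j) : act h (r • x) a = r • act h x a := by
  rw [Ext.smul_eq_comp_mk₀, smul_id_eq_cst, act_comp_mk₀ (k := k), HorrocksPnLib.hMap_cst]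

theorem act_smul_right {G H : X.Modules} {q j m : ℕ} (h : j + q = m) (x : Ext.{u} G H q) (r : k)
    (a : Coh.HH X G j) : act h x (r • a) = r • act h x a := by
  rw [← HorrocksPnLib.hMap_cst, ← act_mk₀_comp, ← act_smul_left, ← smul_id_eq_cst, Ext.mk₀_smul, Ext.smul_comp,
    Ext.mk₀_id_comp]

/-- The pairing of Ext with cohomology. -/
def pairT (t : Coh.HH X W n →ₗ[k] k) {G : X.Modules} {q j : ℕ} (h : j + q = n) :
    Ext.{u} G W q →ₗ[k] Module.Dual k (Coh.HH X G j) where
  toFun x :=
    { toFun := fun a => t (act h x a)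
      map_add' := fun a b => by rw [← map_add]; exact congrArg _ (Ext.add_comp _ _ _ _)
      map_smul' := fun r a => by rw [act_smul_right, map_smul]; rfl }
  map_add' x y := LinearMap.ext fun a => by
    show t (act h (x + y) a) = t (act h x a) + t (act h y a)
    rw [← map_add]
    refine congrArg _ ?_
    simp only [act, extAb, Ext.mapExactFunctor_add, Ext.comp_add]
  map_smul' r x := LinearMap.ext fun a => by
    show t (act h (r • x) a) = r • t (act h x a)
    rw [act_smul_left, map_smul]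

theorem pairT_mk₀_comp (t : Coh.HH X W n →ₗ[k] k) {G G' : X.Modules} {q j : ℕ} (h : j + q = n) (g : G ⟶ G') (x : Ext.{u} G' W q)
    (a : Coh.HH X G j) :
    pairT t h ((Ext.mk₀ g).comp x (zero_add q)) a = pairT t h x (CurveLib.hMap (k := k) g j a) :=
  congrArg t (act_mk₀_comp h g x a)

variable (t : Coh.HH X W n →ₗ[k] k)
  (hdual : ∀ G : X.Modules, Coh.IsCoh G → ∀ ψ : Coh.HH X G n →ₗ[k] k,
    ∃! φ : G ⟶ W, ∀ x : Coh.HH X G n, ψ x = t (Sheaf.H.map ((SheafOfModules.toSheaf X.ringCatSheaf).map φ) n x))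

include hdual in
theorem pairT_zero_bijective {G : X.Modules} (hG : Coh.IsCoh G) :
    Function.Bijective (pairT t (G := G) (Nat.add_zero n)) := by
  have ht := hdual G hG
  have key : ∀ (φ : G ⟶ W) (a : Coh.HH X G n), pairT t (Nat.add_zero n) (Ext.mk₀ φ) a =
      t (CurveLib.hMap (k := k) φ n a) := fun φ a => congrArg t (act_mk₀ φ a)
  refine ⟨fun x y hxy => ?_, fun ψ => ?_⟩
  · obtain ⟨φ, rfl⟩ := (Ext.mk₀_bijective G W).2 x
    obtain ⟨φ', rfl⟩ := (Ext.mk₀_bijective G W).2 y
    exact congrArg _ ((ht (pairT t (Nat.add_zero n) (Ext.mk₀ φ))).unique (fun a => key φ a)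
      (fun a => (LinearMap.congr_fun hxy a).trans (key φ' a)))
  · obtain ⟨φ, hφ, -⟩ := ht ψ
    exact ⟨Ext.mk₀ φ, LinearMap.ext fun a => (key φ a).trans (hφ a).symm⟩

variable (hstep : 0 < n → ∀ {G : X.Modules}, Coh.IsCoh G → ∃ S : ShortComplex X.Modules,
  S.ShortExact ∧ S.X₃ = G ∧ Coh.IsCoh S.X₁ ∧ Coh.IsCoh S.X₂ ∧
    (∀ q, q < n → Subsingleton (Coh.HH X S.X₂ q)) ∧ ∀ i, 1 ≤ i → Subsingleton (Ext.{u} S.X₂ W i))

include hdual hstep in
/-- The pairing is perfect. -/
theorem pairT_bijective : ∀ (q : ℕ) {j : ℕ} (h : j + q = n) {G : X.Modules}, Coh.IsCoh G →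
    Function.Bijective (pairT t (G := G) h) := by
  intro q
  induction q with
  | zero =>
    intro j h G hG
    obtain rfl : j = n := h
    exact pairT_zero_bijective t hdual hG
  | succ q ih =>
    intro j h G hG
    obtain ⟨S, hS, h3, hc1, hc2, hP, hE⟩ := hstep (show 0 < n by omega) hG
    subst h3
    haveI := hP j (by omega)
    haveI := hE (q + 1) (by omega)
    have h' : (j + 1) + q = n := by omega
    have key : ∀ (y : Ext.{u} S.X₁ W q) (a : Coh.HH X S.X₃ j),
        pairT t h (hS.extClass.comp y (add_comm 1 q)) a = pairT t h' y (CurveLib.hδ (k := k) hS j a) := fun y a => by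
      refine congrArg t ?_
      rw [act, extAb, Ext.mapExactFunctor_comp, Ext.mapExactFunctor_extClass]
      exact (Ext.comp_assoc a _ _ rfl (add_comm 1 q) (by omega)).symm
    refine ⟨(injective_iff_map_eq_zero _).2 fun x hx => ?_, fun ψ => ?_⟩
    · obtain ⟨y, rfl⟩ := Ext.contravariant_sequence_exact₃ hS W x (Subsingleton.elim _ _) (add_comm 1 q)
      have hy : ∀ b ∈ LinearMap.ker (CurveLib.hMap (k := k) S.f (j + 1)), pairT t h' y b = 0 := fun b hb => by
        rw [← CurveLib.range_hδ (k := k) hS] at hb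
        obtain ⟨a, rfl⟩ := hb
        rw [← key, hx, LinearMap.zero_apply]
      obtain ⟨ψ, hψ⟩ : ∃ ψ : Module.Dual k (Coh.HH X S.X₂ (j + 1)),
          ψ ∘ₗ CurveLib.hMap (k := k) S.f (j + 1) = pairT t h' y := by
        have hm : pairT t h' y ∈ LinearMap.range (CurveLib.hMap (k := k) S.f (j + 1)).dualMap := by
          rw [LinearMap.range_dualMap_eq_dualAnnihilator_ker, Submodule.mem_dualAnnihilator]
          exact hy
        exact hm
      obtain ⟨φ, rfl⟩ := (ih h' hc2).2 ψ
      have hyf : y = (Ext.mk₀ S.f).comp φ (zero_add q) := (ih h' hc1).1 <| LinearMap.ext fun b =>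
        (LinearMap.congr_fun hψ b).symm.trans (pairT_mk₀_comp t h' S.f φ b).symm
      rw [hyf, ← Ext.comp_assoc_of_second_deg_zero, hS.extClass_comp, Ext.zero_comp]
    · have hinj : Function.Injective (CurveLib.hδ (k := k) hS j) := injective_hδ k hS j
      obtain ⟨ψ', hψ'⟩ := (LinearMap.dualMap_surjective_of_injective hinj) ψ
      obtain ⟨y, hy⟩ := (ih h' hc1).2 ψ'
      refine ⟨hS.extClass.comp y (add_comm 1 q), LinearMap.ext fun a => ?_⟩
      rw [key, hy, ← hψ']
      rfl

section OnPS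

variable {k : Type u} [Field k] {N : ℕ} [HasExt.{u} (CohB1.ProjSpace N k).Modules]

/-- The trace on projective space. -/
def traceP (k : Type u) [Field k] (N : ℕ) :
    Coh.HH (CohB1.ProjSpace N k) (Twist.twistProjSpace N k (-((N : ℤ) + 1))) N →ₗ[k] k :=
  (S11314.result k N).choose

/-- Serre duality on projective space: the pairing is perfect. -/
theorem pairP_bijective (q : ℕ) {j : ℕ} (h : j + q = N) {G : (CohB1.ProjSpace N k).Modules} (hG : Coh.IsCoh G) :
    Function.Bijective (pairT (traceP k N) (G := G) h) :=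
  haveI := CMRegLib.isNoetherian_projSpace (k := k) (n := N)
  pairT_bijective (traceP k N) (S11314.result k N).choose_spec (fun hn _ hF => exists_step_coh hn hF) q h hG

end OnPS

end Groth.Agent.ProjSerreLib
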